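import Cfsg.Agent.SmallOrder.Order2520.Structure
import Cfsg.Agent.S3335

/-!
# A simple group of order 2520 satisfies the relations of the alternating group of degree seven
-/

set_option autoImplicit false

namespace Cfsg.Agent.SmallOrder.Order2520

open Subgroup

variable {G : Type*} [Group G]

/-- The excluded twisted braid relation collapses. -/
theorem twisted_collapse {a c b t : G} (ha : a * a = 1) (hc : c * c = 1) (hb : b * b = 1) (ht : t * t = 1)
    (hab : a * b = b * a) (hat : a * t = t * a) (hct : c * t = t * c)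
    (hcb : c * b * c = b * c * b) (htb : t * b * t = b * t * b)
    (hd : (a * c) ^ 3 = t) : (a * c) ^ 4 = 1 := by
  have hai : a⁻¹ = a := inv_eq_of_mul_eq_one_right ha
  have hci : c⁻¹ = c := inv_eq_of_mul_eq_one_right hc
  have hbi : b⁻¹ = b := inv_eq_of_mul_eq_one_right hb
  have hti : t⁻¹ = t := inv_eq_of_mul_eq_one_right ht
  have cA : ∀ x, a * (a * x) = x := fun x => by rw [← mul_assoc, ha, one_mul]
  have cB : ∀ x, b * (b * x) = x := fun x => by rw [← mul_assoc, hb, one_mul]
  have cC : ∀ x, c * (c * x) = x := fun x => by rw [← mul_assoc, hc, one_mul]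
  have cT : ∀ x, t * (t * x) = x := fun x => by rw [← mul_assoc, ht, one_mul]
  have sAT : ∀ x, a * (t * x) = t * (a * x) := fun x => by rw [← mul_assoc, hat, mul_assoc]
  have sCT : ∀ x, c * (t * x) = t * (c * x) := fun x => by rw [← mul_assoc, hct, mul_assoc]
  have sAB : ∀ x, a * (b * x) = b * (a * x) := fun x => by rw [← mul_assoc, hab, mul_assoc]
  obtain ⟨A, hA⟩ : ∃ u, u = b * c * b := ⟨_, rfl⟩
  obtain ⟨P, hP⟩ : ∃ u, u = t * b * t := ⟨_, rfl⟩
  obtain ⟨y', hy'⟩ : ∃ u, u = a * c * a := ⟨_, rfl⟩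
  obtain ⟨e, he⟩ : ∃ u, u = c * a * c := ⟨_, rfl⟩
  obtain ⟨z, hz⟩ : ∃ u, u = a * A * a := ⟨_, rfl⟩
  obtain ⟨A', hA'⟩ : ∃ u, u = t * A * t := ⟨_, rfl⟩
  have hee : e * e = 1 := by rw [he]; simp only [mul_assoc, cC, cA, hc]
  have het : e * t = t * e := by rw [he]; simp only [mul_assoc, sCT, sAT, hct]
  have S1 : y' = t * e := by
    have h1 : y' * e = t := by
      rw [← hd, hy', he]; simp only [pow_succ, pow_zero, one_mul, mul_assoc]
    rw [← h1, mul_assoc, hee, mul_one]
  have hzA' : a * A' * a = t * z * t := by rw [hA', hz]; simp only [mul_assoc, sAT, hat]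
  have S2 : y' * b * y' = z := by
    rw [hy', hz, hA, ← hcb]
    simp only [mul_assoc, sAB, cA]
  have hPc : c * P * c = A' := by
    rw [hA', hA, ← hcb, hP]
    simp only [mul_assoc, sCT, hct]
  have S3 : z = c * (t * z * t) * c := by
    calc z = y' * b * y' := S2.symm
      _ = e * (t * b * t) * e := by
          rw [S1]; nth_rewrite 1 [← het]; simp only [mul_assoc]
      _ = c * (a * (c * P * c) * a) * c := by rw [he, hP]; group
      _ = c * (t * z * t) * c := by rw [hPc, hzA']
  have hczc : c * z * c = t * z * t := by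
    nth_rewrite 1 [S3]
    simp only [mul_assoc, cC, hc, mul_one]
  have hy'AP : y' * (A * P) = A * P * y' := by
    have hct' : z * (c * t) = c * t * z := by
      have : c * t * z * (c * t) = z := by
        nth_rewrite 2 [S3]
        simp only [mul_assoc, hct, sCT]
      calc z * (c * t) = (c * t * z * (c * t)) * (c * t) := by rw [this]
        _ = c * t * z := by simp only [mul_assoc, sCT, cC, cT, hc, ht, hct, mul_one]
    have hyb : y' = b * z * b := by
      rw [hz, hA, hy']; simp only [mul_assoc, sAB, cB]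
      simp only [← mul_assoc, hab]
      simp only [mul_assoc, hb, mul_one]
    have hAP : A * P = b * (c * t) * b := by rw [hA, hP, htb]; simp only [mul_assoc, cB]
    rw [hyb, hAP]
    calc b * z * b * (b * (c * t) * b) = b * (z * (c * t)) * b := by simp only [mul_assoc, cB]
      _ = b * (c * t * z) * b := by rw [hct']
      _ = b * (c * t) * b * (b * z * b) := by simp only [mul_assoc, cB]
  have hPa : a * P * a = P := by
    rw [hP]; simp only [mul_assoc, sAT, sAB]
    simp only [← mul_assoc, hat]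
    simp only [mul_assoc, cA, ha, mul_one]
  have hzP : c * (z * P) = z * P * c := by
    have h1 : a * (A * P) * a = z * P := by
      calc a * (A * P) * a = a * A * a * (a * P * a) := by simp only [mul_assoc, cA]
        _ = z * P := by rw [hPa, hz]
    have h2 : a * y' * a = c := by rw [hy']; simp only [mul_assoc, cA, ha, mul_one]
    calc c * (z * P) = a * y' * a * (a * (A * P) * a) := by rw [h2, h1]
      _ = a * (y' * (A * P)) * a := by simp only [mul_assoc, cA]
      _ = a * (A * P * y') * a := by rw [hy'AP]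
      _ = a * (A * P) * a * (a * y' * a) := by simp only [mul_assoc, cA]
      _ = z * P * c := by rw [h1, h2]
  have hkey : z * A = a * (A' * b) * a := by
    have h1 : t * (z * A) * t = z * P := by
      calc t * (z * A) * t = t * z * t * (t * A * t) := by simp only [mul_assoc, cT]
        _ = c * z * c * (c * P * c) := by rw [hczc, hPc, hA']
        _ = c * (z * P) * c := by simp only [mul_assoc, cC]
        _ = z * P := by rw [hzP, mul_assoc, hc, mul_one]
    calc z * A = t * (t * (z * A) * t) * t := by simp only [mul_assoc, cT, ht, mul_one]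
      _ = t * z * t * (t * P * t) := by rw [h1]; simp only [mul_assoc, cT]
      _ = (t * z * t) * b := by rw [hP]; simp only [mul_assoc, cT, ht, mul_one]
      _ = a * A' * a * b := by rw [hzA']
      _ = a * (A' * b) * a := by rw [mul_assoc (a * A') a b, hab]; group
  have hcomm : A' * b = b * A' := by
    have h1 : b * A' * b = A' := by
      calc b * A' * b = (b * t * b) * c * (b * t * b) := by rw [hA', hA]; group
        _ = (t * b * t) * c * (t * b * t) := by rw [htb]
        _ = A' := by rw [hA', hA]; simp only [mul_assoc, sCT, cT, hct]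
    nth_rewrite 1 [← h1]
    rw [mul_assoc, hb, mul_one]
  have hA'A' : A' * A' = 1 := by rw [hA', hA]; simp only [mul_assoc, cT, cB, cC, hb, ht, mul_one]
  have hsq : (z * A) * (z * A) = 1 := by
    rw [hkey]
    calc a * (A' * b) * a * (a * (A' * b) * a) = a * (A' * b * (A' * b)) * a := by
          simp only [mul_assoc, cA]
      _ = a * (A' * (b * A') * b) * a := by group
      _ = a * (A' * (A' * b) * b) * a := by rw [hcomm]
      _ = 1 := by rw [← mul_assoc A', hA'A', one_mul, hb, mul_one, ha]
  have hAd : (a * A) = b * (a * c) * b := by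
    rw [hA]; simp only [mul_assoc, sAB]
  have h4 : (a * A) ^ 4 = 1 := by
    rw [← hsq, hz]; simp only [pow_succ, pow_zero, one_mul, mul_assoc]
  rw [hAd] at h4
  have : (b * (a * c) * b⁻¹) ^ 4 = 1 := by rwa [hbi]
  rwa [conj_pow, conj_eq_one_iff] at this

variable [Finite G] [IsSimpleGroup G]

theorem nonempty_equiv (h : Hyp G) : Nonempty (G ≃* alternatingGroup (Fin 7)) := by
  classical
  have : Fact (Nat.Prime 3) := ⟨Nat.prime_three⟩
  obtain ⟨S, y, w, hyS, hwS, hy1, hwy, hy36, hw36⟩ := h.exists_pair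
  have hy : Three y := ⟨orderOf_eq_prime (h.exponent_three S hyS) hy1, hy36⟩
  have hw1 : w ≠ 1 := fun e => hwy (e ▸ one_mem _)
  have hw : Three w := ⟨orderOf_eq_prime (h.exponent_three S hwS) hw1, hw36⟩
  have hwy' : Commute w y := commute_of_mem_centralizer (h.sylow_le_centralizer S hyS hwS)
  have hw3 : w ^ 3 = 1 := h.exponent_three S hwS
  have hy3 : y ^ 3 = 1 := h.exponent_three S hyS
  have hyw : y ∉ zpowers w := fun e => hwy (by
    have := eq_of_le_of_card_ge (zpowers_le.2 e) (by rw [Nat.card_zpowers, Nat.card_zpowers, hw.ord, hy.ord])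
    exact this ▸ mem_zpowers w)
  have hodd : ∀ x ∈ (S : Subgroup G), x⁻¹ = x → x = 1 := fun x hx e => by
    have h2 : orderOf x ∣ 2 := orderOf_dvd_of_pow_eq_one (by rw [sq]; exact inv_eq_iff_mul_eq_one.1 e)
    have h3 : orderOf x ∣ 3 := orderOf_dvd_of_pow_eq_one (h.exponent_three S hx)
    exact orderOf_eq_one_iff.1 (Nat.eq_one_of_dvd_coprimes (by norm_num) h2 h3)
  -- the inverter
  obtain ⟨-, b, hbN, hb⟩ := h.exists_inverter S
  have hbb : b * b = 1 := by
    have hmem : b * b ∈ (S : Subgroup G) := by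
      rw [← h.centralizer_sylow_eq S]
      refine mem_centralizer_iff.2 fun s hs => (mul_inv_eq_iff_eq_mul.1 ?_).symm
      rw [show b * b * s * (b * b)⁻¹ = b * (b * s * b⁻¹) * b⁻¹ by group, hb s hs,
        hb _ (inv_mem hs), inv_inv]
    refine hodd _ hmem ((hb _ hmem).symm.trans ?_)
    group
  have hbi : b⁻¹ = b := inv_eq_of_mul_eq_one_right hbb
  have hby := hb y hyS
  have hbw := hb w hwS
  -- the five generators
  set x5 := b * w with hx5def
  have h55 : x5 * x5 = 1 := by
    have : b * w * b = w⁻¹ := by rwa [hbi] at hbw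
    rw [hx5def, show b * w * (b * w) = (b * w * b) * w by group, this, inv_mul_cancel]
  have h5i : x5⁻¹ = x5 := inv_eq_of_mul_eq_one_right h55
  have h5y : x5 * y * x5⁻¹ = y⁻¹ := by
    rw [hx5def, show b * w * y * (b * w)⁻¹ = b * (w * y * w⁻¹) * b⁻¹ by group, hwy'.eq,
      mul_inv_cancel_right, hby]
  obtain ⟨v, hv, hv1, hv5⟩ := h.exists_fixed hy h55 h5y hwy' hw3 hwy
  obtain ⟨x2, hx2, hx21, hbx2⟩ := h.exists_fixed hw hbb hbw hwy'.symm hy3 hyw
  set x3 := v * x5 with hx3def
  have h33 : x3 * x3 = 1 := by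
    rw [hx3def, show v * x5 * (v * x5) = v * (x5 * v) * x5 by group, hv5.eq, ← mul_assoc v v x5, hv.2,
      one_mul, h55]
  have h3y : x3 * y * x3⁻¹ = y⁻¹ := by
    rw [hx3def, show v * x5 * y * (v * x5)⁻¹ = v * (x5 * y * x5⁻¹) * v⁻¹ by group, h5y,
      hv.1.inv_right.eq, mul_inv_cancel_right]
  have h35 : Commute x3 x5 := hv5.symm.mul_left (Commute.refl x5)
  have hx25 : Commute x2 x5 := hbx2.symm.mul_right hx2.1
  have hx24 : Commute x2 b := hbx2.symm
  have h45 : b * x5 = w := by rw [hx5def, ← mul_assoc, hbb, one_mul]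
  have h34 : (x3 * b) ^ 3 = 1 := by
    have e : x3 * b = v * w⁻¹ := by
      rw [hx3def, hx5def, mul_assoc]
      congr 1
      rwa [hbi] at hbw
    rw [e]
    exact h.cube hy hwy'.inv_left (by rw [inv_pow, hw3, inv_one])
      (fun e' => hwy (by simpa using inv_mem e')) hv hv1
  have hx5ne : x5 ≠ 1 := fun e => by
    rw [e, one_mul, inv_one, mul_one] at h5y
    exact hy1 (hodd y hyS h5y.symm)
  have hinvol : ∀ a : G, a * a = 1 → a ≠ 1 → orderOf a = 2 := fun a ha ha1 =>
    orderOf_eq_prime (by rw [sq]; exact ha) ha1 (hp := ⟨Nat.prime_two⟩)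
  obtain ⟨c, hc⟩ := isConj_iff.1 (h.involution hy hv hv1 (hinvol x5 h55 hx5ne))
  have hy' : InV (c * y * c⁻¹) x5 := hc ▸ hv.conj c
  -- the braid relation
  have h23 : (x2 * x3) ^ 3 = 1 := by
    have hinv : x2 * (x2 * x3) * x2⁻¹ = (x2 * x3)⁻¹ := by
      rw [mul_inv_rev, hx2.inv_eq, inv_eq_of_mul_eq_one_right h33, ← mul_assoc, hx2.2, one_mul]
    have hnot2 : x2 * x3 * (x2 * x3) ≠ 1 := by
      intro e
      have hc23 : Commute x3 x2 := by
        have := eq_inv_of_mul_eq_one_left e
        rw [mul_inv_rev, hx2.inv_eq, inv_eq_of_mul_eq_one_right h33] at this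
        exact this.symm
      have hnorm := (h.centralizer_involution hw hx2 hx21).2.1 x3 hc23
      have h5w : x5 * w * x5⁻¹ = w⁻¹ := by
        rw [hx5def, show b * w * w * (b * w)⁻¹ = b * w * b⁻¹ by group, hbw]
      rw [show x3 * w * x3⁻¹ = v * (x5 * w * x5⁻¹) * v⁻¹ by rw [hx3def]; group, h5w] at hnorm
      rcases hnorm with e' | e'
      · -- `v` inverts `w`
        have hwv : InV y (w * v * w⁻¹) := hv.conj_of_normalizes (Or.inl (by rw [hwy'.eq, mul_inv_cancel_right]))
        have hm := (h.inV_mul hy hv hwv).1.2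
        have hvw : v * w * v⁻¹ = w⁻¹ := by
          have := congrArg (·⁻¹) e'
          simpa [mul_assoc] using this
        rw [hv.inv_eq] at hvw
        rw [show v * (w * v * w⁻¹) = v * w * v * w⁻¹ by group, hvw] at hm
        have hw4 : orderOf w ∣ 4 := orderOf_dvd_of_pow_eq_one (by
          have : (w⁻¹) ^ 4 = 1 := by rw [← hm]; simp only [pow_succ, pow_zero, one_mul, mul_assoc]
          rwa [inv_pow, inv_eq_one] at this)
        rw [hw.ord] at hw4
        norm_num at hw4
      · -- `v` centralises `w`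
        have hc' : Commute v w⁻¹ := mul_inv_eq_iff_eq_mul.1 e'
        exact hv1 (h.fpf hy hwy' hw3 hwy hv (by simpa using hc'.inv_right.symm))
    rcases h.dichotomy (hy.conj c) hy' hx5ne hx2.2 hx25 (hx25.mul_left h35) hinv with e | e | e | e
    · exact e
    · exact absurd e hnot2
    · exfalso
      have h232 : x2 * x3 * x2 = v := by
        calc x2 * x3 * x2 = x2 * x3 * (x2 * x3) * x3⁻¹ := by group
          _ = v := by rw [e, inv_eq_of_mul_eq_one_right h33, ← h35.eq, hx3def, mul_assoc, h55, mul_one]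
      have hvb : (v * b) ^ 3 = 1 := by
        have e2 : x2 * (x3 * b) * x2⁻¹ = v * b := by
          rw [hx2.inv_eq, show x2 * (x3 * b) * x2 = x2 * x3 * (b * x2) by group, hbx2.eq,
            ← mul_assoc, h232]
        rw [← e2, conj_pow, h34, mul_one, mul_inv_cancel]
      have hvb' : InV y (b * v * b⁻¹) := hv.conj_of_normalizes (Or.inr hby)
      obtain ⟨hm, -⟩ := h.inV_mul hy hv hvb'
      have hvbV : InV y (v * b) := by
        have e2 : v * b = v * (b * v * b⁻¹) := by
          refine (inv_eq_of_mul_eq_one_left ?_).symm.trans hm.inv_eq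
          rw [← hvb, hbi]; simp only [pow_succ, pow_zero, one_mul, mul_assoc]
        rw [e2]; exact hm
      have hbc : Commute b y := by
        have := hv.1.mul_left hvbV.1
        rwa [← mul_assoc, hv.2, one_mul] at this
      exact hy1 (hodd y hyS (hby.symm.trans (by rw [hbc.eq, mul_inv_cancel_right])))
    · exfalso
      have hcb : x3 * b * x3 = b * x3 * b := by
        have := eq_inv_of_mul_eq_one_left (show x3 * b * x3 * (b * x3 * b) = 1 by
          rw [← h34]; simp only [pow_succ, pow_zero, one_mul, mul_assoc])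
        rw [this, mul_inv_rev, mul_inv_rev, hbi, inv_eq_of_mul_eq_one_right h33, ← mul_assoc]
      have htb : x5 * b * x5 = b * x5 * b := by
        have h3 : (b * x5) ^ 3 = 1 := by rw [h45, hw3]
        have := eq_inv_of_mul_eq_one_left (show b * x5 * b * (x5 * b * x5) = 1 by
          rw [← h3]; simp only [pow_succ, pow_zero, one_mul, mul_assoc])
        exact (this.trans (by
          rw [mul_inv_rev (x5 * b) x5, mul_inv_rev x5 b, hbi, h5i]; exact (mul_assoc x5 b x5).symm)).symm
      have h4 := twisted_collapse hx2.2 h33 hbb h55 hx24.eq hx25.eq h35.eq hcb htb e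
      refine hnot2 ?_
      calc x2 * x3 * (x2 * x3) = ((x2 * x3) ^ 3) ^ 2 * ((x2 * x3) ^ 4)⁻¹ := by
            rw [← pow_mul, show 3 * 2 = 2 + 4 from rfl, pow_add, mul_inv_cancel_right, sq]
        _ = 1 := by rw [e, h4, sq, h55, inv_one, mul_one]
  -- the homomorphism
  have hinvsq : ∀ a, a * a = 1 → a * y * a⁻¹ = y⁻¹ → (y * a) ^ 2 = 1 := fun a ha hay => by
    rw [inv_eq_of_mul_eq_one_right ha] at hay
    rw [sq, show y * a * (y * a) = y * (a * y * a) by group, hay, mul_inv_cancel]
  have hcommsq : ∀ a a' : G, a * a = 1 → a' * a' = 1 → Commute a a' → (a * a') ^ 2 = 1 := fun a a' ha ha' hc => by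
    rw [hc.mul_pow, sq, sq, ha, ha', one_mul]
  let φ : Fin 5 → G := ![y, x2, x3, b, x5]
  set R : Set (FreeGroup (Fin (7 - 2))) :=
    ({g : FreeGroup (Fin (7 - 2)) | ∃ i : Fin (7 - 2), i.val = 0 ∧ g = FreeGroup.of i ^ 3} ∪
       {g | ∃ i : Fin (7 - 2), 1 ≤ i.val ∧ g = FreeGroup.of i ^ 2} ∪
       {g | ∃ i j : Fin (7 - 2), j.val = i.val + 1 ∧ g = (FreeGroup.of i * FreeGroup.of j) ^ 3} ∪
       {g | ∃ i j : Fin (7 - 2), i.val + 1 < j.val ∧ g = (FreeGroup.of i * FreeGroup.of j) ^ 2}) with hR
  have hrel : ∀ r ∈ R, FreeGroup.lift φ r = 1 := by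
    intro r hr
    simp only [hR, Set.mem_union, Set.mem_setOf_eq] at hr
    rcases hr with ((hr | hr) | hr) | hr
    · obtain ⟨i, hi, rfl⟩ := hr
      obtain rfl : i = 0 := Fin.ext hi
      rw [map_pow, FreeGroup.lift_apply_of]
      exact hy3
    · obtain ⟨i, hi, rfl⟩ := hr
      rw [map_pow, FreeGroup.lift_apply_of, sq]
      fin_cases i
      · simp at hi
      · exact hx2.2
      · exact h33
      · exact hbb
      · exact h55
    · obtain ⟨i, j, hij, rfl⟩ := hr
      rw [map_pow, map_mul, FreeGroup.lift_apply_of, FreeGroup.lift_apply_of]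
      fin_cases i <;> fin_cases j <;> simp at hij
      · show (y * x2) ^ 3 = 1
        have hcube := h.cube hw hwy'.symm hy3 hyw hx2 hx21
        rw [show y * x2 = x2⁻¹ * (x2 * y) * x2⁻¹⁻¹ by group, conj_pow, hcube, mul_one, mul_inv_cancel]
      · exact h23
      · exact h34
      · show (b * x5) ^ 3 = 1
        rw [h45, hw3]
    · obtain ⟨i, j, hij, rfl⟩ := hr
      rw [map_pow, map_mul, FreeGroup.lift_apply_of, FreeGroup.lift_apply_of]
      fin_cases i <;> fin_cases j <;> simp at hij
      · exact hinvsq x3 h33 h3y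
      · exact hinvsq b hbb hby
      · exact hinvsq x5 h55 h5y
      · exact hcommsq x2 b hx2.2 hbb hx24
      · exact hcommsq x2 x5 hx2.2 h55 hx25
      · exact hcommsq x3 x5 h33 h55 h35
  obtain ⟨e⟩ := Cfsg.Agent.S3335.result 7 (by norm_num)
  let f : alternatingGroup (Fin 7) →* G := (PresentedGroup.toGroup hrel).comp e.symm.toMonoidHom
  have : IsSimpleGroup (alternatingGroup (Fin 7)) := alternatingGroup.isSimpleGroup (by simp)
  have hinj : Function.Injective f := by
    rw [← MonoidHom.ker_eq_bot_iff]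
    refine (Subgroup.Normal.eq_bot_or_eq_top (H := f.ker) inferInstance).resolve_right fun htop => hy1 ?_
    have : f (e (PresentedGroup.of (⟨0, by norm_num⟩ : Fin (7 - 2)))) = 1 := by
      rw [← MonoidHom.mem_ker, htop]; trivial
    simpa [f, φ] using this
  have hA : 2 * Nat.card (alternatingGroup (Fin 7)) = 5040 := by
    rw [two_mul_nat_card_alternatingGroup, Nat.card_perm, Nat.card_fin]; rfl
  exact ⟨(MulEquiv.ofBijective f (hinj.bijective_of_nat_card_le (by rw [h.card]; omega))).symm⟩

end Cfsg.Agent.SmallOrder.Order2520
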