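import Cfsg.Agent.SmallOrder.Order2520.Three
import Cfsg.Agent.S3341

/-!
# Order 2520: the Sylow three-subgroup is self-centralising, and some element of it has a
centraliser of order thirty-six
-/

set_option autoImplicit false

namespace Cfsg.Agent.SmallOrder.Order2520

open Subgroup

variable {G : Type*} [Group G] [Finite G] [IsSimpleGroup G] [Fact (Nat.Prime 3)]

omit [IsSimpleGroup G] in
theorem pow_ten_eq (h : Hyp G) (S : Sylow 3 G) {s u : G} (hs : s ∈ (S : Subgroup G))
    (hu : orderOf u = 2) (hc : Commute s u) : (s * u) ^ 10 = s ∧ (s * u) ^ 9 = u := by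
  have hS : Nat.card (S : Subgroup G) = 9 := by
    rw [card_sylow_eq_pow (p := 3) (a := 2) (m := 280) (by rw [h.card]; norm_num) (by norm_num) S]
    norm_num
  have h9 : s ^ 9 = 1 := orderOf_dvd_iff_pow_eq_one.1 (hS ▸ (S : Subgroup G).orderOf_dvd_natCard hs)
  have h2 : u ^ 2 = 1 := hu ▸ pow_orderOf_eq_one u
  constructor
  · rw [hc.mul_pow, pow_succ s 9, h9, one_mul, show (10 : ℕ) = 2 * 5 from rfl, pow_mul, h2,
      one_pow, mul_one]
  · rw [hc.mul_pow, h9, one_mul, pow_succ u 8, show (8 : ℕ) = 2 * 4 from rfl, pow_mul, h2, one_pow,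
      one_mul]

/-- `C(S)` has order nine. -/
theorem Hyp.card_centralizer_sylow (h : Hyp G) (S : Sylow 3 G) :
    Nat.card (centralizer ((S : Subgroup G) : Set G)) = 9 := by
  classical
  refine (h.exists_inverter S).1.resolve_right fun h18 => ?_
  have h2 : Fact (Nat.Prime 2) := ⟨Nat.prime_two⟩
  -- everything below holds for each Sylow subgroup, so first the common facts
  have key : ∀ T : Sylow 3 G, Nat.card (centralizer ((T : Subgroup G) : Set G)) = 18 →
      ∃ u : G, orderOf u = 2 ∧ u ∈ centralizer ((T : Subgroup G) : Set G) ∧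
        Nat.card (centralizer ({u} : Set G)) = 36 ∧
        (∀ x ∈ (T : Subgroup G), x ≠ 1 →
          centralizer ({x} : Set G) = centralizer ((T : Subgroup G) : Set G)) ∧
        (∀ w : G, orderOf w = 2 → w ∈ centralizer ((T : Subgroup G) : Set G) → w = u) := by
    intro T hT18
    set C := centralizer ((T : Subgroup G) : Set G) with hC
    have hT := h.card_sylow_three T
    obtain ⟨u', hu'⟩ := exists_prime_orderOf_dvd_card' (G := C) 2 (by rw [hT18]; norm_num)
    rw [← orderOf_coe] at hu'
    set u : G := (u' : G) with hudef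
    have hab := h.three_comm T
    have hTC : (T : Subgroup G) ≤ C := le_centralizer _
    have hidx : ((T : Subgroup G).subgroupOf C).index = 2 := by
      have h1 := ((T : Subgroup G).subgroupOf C).card_mul_index
      rw [Nat.card_congr (subgroupOfEquivOfLe hTC).toEquiv, hT, hT18] at h1
      omega
    have hodd : ∀ w : G, orderOf w = 2 → w ∉ (T : Subgroup G) := fun w hw hwT => by
      have := (T : Subgroup G).orderOf_dvd_natCard hwT
      rw [hw, hT] at this
      norm_num at this
    have huniq : ∀ w : G, orderOf w = 2 → w ∈ C → w = u := by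
      intro w hw hwC
      have h1 : (⟨w, hwC⟩ * u' : C) ∈ (T : Subgroup G).subgroupOf C :=
        (mul_mem_iff_of_index_two hidx).2 ⟨fun e => absurd (mem_subgroupOf.1 e) (hodd w hw),
          fun e => absurd (mem_subgroupOf.1 e) (hodd u hu')⟩
      rw [mem_subgroupOf] at h1
      change w * u ∈ (T : Subgroup G) at h1
      have huw : Commute u (w * u) := (mem_centralizer_iff.1 u'.2 _ h1).symm
      have hwu : Commute u w := by
        have := huw.mul_right (Commute.refl u).inv_right
        rwa [mul_inv_cancel_right] at this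
      have hww : w * w = 1 := by rw [← sq, ← hw, pow_orderOf_eq_one]
      have huu : u * u = 1 := by rw [← sq, ← hu', pow_orderOf_eq_one]
      have h2' : (w * u) ^ 2 = 1 := by
        rw [hwu.symm.mul_pow, sq, sq, hww, huu, one_mul]
      have h9' : orderOf (w * u) ∣ 9 := hT ▸ (T : Subgroup G).orderOf_dvd_natCard h1
      have := orderOf_eq_one_iff.1 (Nat.eq_one_of_dvd_coprimes (by norm_num)
        (orderOf_dvd_of_pow_eq_one h2') h9')
      calc w = w * (u * u) := by rw [huu, mul_one]
        _ = (w * u) * u := by rw [mul_assoc]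
        _ = u := by rw [this, one_mul]
    -- the normaliser centralises the involution
    have hNu : normalizer ((T : Subgroup G) : Set G) ≤ centralizer ({u} : Set G) := by
      intro n hn
      refine mem_centralizer_singleton_iff.2 (mul_inv_eq_iff_eq_mul.1 (huniq _ ?_ ?_))
      · rw [← hu']; exact orderOf_injective (MulAut.conj n).toMonoidHom (MulAut.conj n).injective u
      · refine mem_centralizer_iff.2 fun t ht => ?_
        have ht' : n⁻¹ * t * n ∈ (T : Subgroup G) := by
          simpa using (mem_normalizer_iff.1 (inv_mem hn) t).1 ht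
        have := mem_centralizer_iff.1 u'.2 _ ht'
        calc t * (n * u * n⁻¹) = n * ((n⁻¹ * t * n) * u) * n⁻¹ := by group
          _ = n * (u * (n⁻¹ * t * n)) * n⁻¹ := by rw [this]
          _ = n * u * n⁻¹ * t := by group
    have hu1 : u ≠ 1 := fun e => by rw [e, orderOf_one] at hu'; omega
    refine ⟨u, hu', u'.2, ?_, fun x hxT hx => ?_, huniq⟩
    · set D := centralizer ({u} : Set G) with hD
      have h36 : 36 ∣ Nat.card D := h.three_normalizer T ▸ card_dvd_of_le hNu
      have h7 := h.seven_not_dvd hu1 (by rw [hu']; norm_num)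
      have hle := h.card_le (h.centralizer_ne_top hu1)
      have hTD : (T : Subgroup G) ≤ D := le_normalizer.trans hNu
      let TD : Sylow 3 D := T.subtype hTD
      have hnorm : Nat.card (normalizer ((TD : Subgroup D) : Set D)) = 36 := by
        show Nat.card (normalizer (((T : Subgroup G).subgroupOf D : Subgroup D) : Set D)) = _
        rw [← subgroupOf_normalizer_eq hTD, Nat.card_congr (subgroupOfEquivOfLe hNu).toEquiv,
          h.three_normalizer T]
      have hmul := card_sylow_mul_card_normalizer TD
      rw [hnorm] at hmul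
      have hmod : Nat.card (Sylow 3 D) % 3 = 1 := card_sylow_mod 3
      have key : ∀ d ∈ Nat.divisors 2520, d ≤ 315 → 36 ∣ d → ¬ 7 ∣ d →
          d = 36 ∨ d = 72 ∨ d = 180 := by decide +kernel
      rcases key _ (Nat.mem_divisors.2 ⟨h.card_dvd D, by norm_num⟩) hle h36 h7 with e | e | e
      · exact e
      · omega
      · omega
    · have hle : C ≤ centralizer ({x} : Set G) := centralizer_le (Set.singleton_subset_iff.2 hxT)
      refine (eq_of_le_of_card_ge hle ?_).symm
      rw [hT18]
      rcases (h.three_centralizer T hxT hx).1 with e | e | e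
      · omega
      · omega
      · exact absurd ((h.three_centralizer T hxT hx).2.2 e u
          (centralizer_le_normalizer _ u'.2) (commute_of_mem_centralizer (hle u'.2))) (hodd u hu')
  obtain ⟨u, hu, huC, huc, hcx, -⟩ := key S h18
  have hS := h.card_sylow_three S
  have hab := h.three_comm S
  obtain ⟨-, b, hbN, hb⟩ := h.exists_inverter S
  -- fusion inside `S` is inversion only
  have hfus : ∀ s ∈ (S : Subgroup G), ∀ t ∈ (S : Subgroup G), IsConj s t → t = s ∨ t = s⁻¹ := by
    intro s hs t ht hst
    obtain ⟨g, hg⟩ := isConj_iff.1 hst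
    obtain ⟨n, hn, hn'⟩ := S.conj_eq_normalizer_conj_of_mem s g⁻¹ hs (by rw [inv_inv, hg]; exact ht)
    rw [inv_inv, hg] at hn'
    set N := normalizer ((S : Subgroup G) : Set G) with hN
    have hidx : ((centralizer ((S : Subgroup G) : Set G)).subgroupOf N).index = 2 := by
      have h1 := ((centralizer ((S : Subgroup G) : Set G)).subgroupOf N).card_mul_index
      rw [Nat.card_congr (subgroupOfEquivOfLe (centralizer_le_normalizer _)).toEquiv, h18,
        h.three_normalizer S] at h1
      omega
    by_cases hnC : n ∈ centralizer ((S : Subgroup G) : Set G)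
    · left
      rw [hn', mul_assoc, mem_centralizer_iff.1 hnC s hs, inv_mul_cancel_left]
    · right
      by_cases hs1 : s = 1
      · subst hs1; rw [hn']; simp
      have hbC : b ∉ centralizer ((S : Subgroup G) : Set G) := fun e => by
        have h1 := hb s hs
        rw [← mem_centralizer_iff.1 e s hs, mul_inv_cancel_right] at h1
        have h2' : orderOf s ∣ 2 := orderOf_dvd_of_pow_eq_one (by
          rw [sq]; nth_rewrite 1 [h1]; rw [inv_mul_cancel])
        exact hs1 (orderOf_eq_one_iff.1 (Nat.eq_one_of_dvd_coprimes (by norm_num) h2'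
          (hS ▸ (S : Subgroup G).orderOf_dvd_natCard hs)))
      have hprod : (⟨b, hbN⟩ * ⟨n, hn⟩ : N) ∈ (centralizer ((S : Subgroup G) : Set G)).subgroupOf N :=
        (mul_mem_iff_of_index_two hidx).2 ⟨fun e => absurd (mem_subgroupOf.1 e) hbC,
          fun e => absurd (mem_subgroupOf.1 e) hnC⟩
      rw [mem_subgroupOf] at hprod
      change b * n ∈ _ at hprod
      have h1 := mem_centralizer_iff.1 hprod t ht
      have h2' := hb s hs
      calc t = (b * n) * t * (b * n)⁻¹ := by rw [← h1, mul_inv_cancel_right]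
        _ = b * (n * (n⁻¹ * s * n) * n⁻¹) * b⁻¹ := by rw [hn']; group
        _ = s⁻¹ := by rw [← h2']; group
  -- four representatives
  have hpick : ∀ A : Finset G, A.card ≤ 7 → ∃ s ∈ (S : Subgroup G), s ≠ 1 ∧ s ∉ A := by
    intro A hA
    by_contra! hcon
    have := Fintype.ofFinite G
    have hsub : (Finset.univ.filter fun g => g ∈ (S : Subgroup G)) ⊆ insert 1 A := fun g hg => by
      simp only [Finset.mem_filter, Finset.mem_univ, true_and] at hg
      by_cases e : g = 1
      · exact Finset.mem_insert.2 (Or.inl e)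
      · exact Finset.mem_insert_of_mem (hcon g hg e)
    have h1 := (Finset.card_le_card hsub).trans (Finset.card_insert_le 1 A)
    rw [← Fintype.card_subtype, ← Nat.card_eq_fintype_card, hS] at h1
    omega
  obtain ⟨s₁, h1S, h11, -⟩ := hpick ∅ (by simp)
  obtain ⟨s₂, h2S, h21, h2A⟩ := hpick {s₁, s₁⁻¹} (Finset.card_le_two.trans (by norm_num))
  obtain ⟨s₃, h3S, h31, h3A⟩ := hpick {s₁, s₁⁻¹, s₂, s₂⁻¹}
    (Finset.card_le_four.trans (by norm_num))
  obtain ⟨s₄, h4S, h41, h4A⟩ := hpick {s₁, s₁⁻¹, s₂, s₂⁻¹, s₃, s₃⁻¹}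
    (Finset.card_le_six.trans (by norm_num))
  simp only [Finset.mem_insert, Finset.mem_singleton, not_or] at h2A h3A h4A
  let s : Fin 4 → G := ![s₁, s₂, s₃, s₄]
  have hsS : ∀ i, s i ∈ (S : Subgroup G) := by intro i; fin_cases i <;> assumption
  have hs1 : ∀ i, s i ≠ 1 := by intro i; fin_cases i <;> assumption
  have hsne : ∀ i j, (s j = s i ∨ s j = (s i)⁻¹) → i = j := by
    have hlt : ∀ i j, i < j → ¬ (s j = s i ∨ s j = (s i)⁻¹) := by
      intro i j hij
      fin_cases i <;> fin_cases j <;> simp at hij <;> simp_all [s]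
    intro i j hij
    rcases lt_trichotomy i j with e | e | e
    · exact absurd hij (hlt i j e)
    · exact e
    · refine absurd ?_ (hlt j i e)
      rcases hij with e' | e'
      · exact Or.inl e'.symm
      · exact Or.inr (by rw [e', inv_inv])
  -- the central involution of a Sylow two-subgroup
  obtain ⟨T2⟩ : Nonempty (Sylow 2 G) := Sylow.nonempty
  obtain ⟨z, hzT, hz, hTz⟩ := exists_central_involution_sylow (by rw [h.card]; norm_num) T2
  have h8 : 8 ∣ Nat.card (centralizer ({z} : Set G)) := by
    have h8' : Nat.card (T2 : Subgroup G) = 8 := by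
      rw [card_sylow_eq_pow (p := 2) (a := 3) (m := 315) (by rw [h.card]; norm_num) (by norm_num) T2]
      norm_num
    exact h8' ▸ card_dvd_of_le hTz
  have hz1 : z ≠ 1 := fun e => by rw [e, orderOf_one] at hz; omega
  have hzc : Nat.card (centralizer ({z} : Set G)) ≤ 8 := by
    set D := centralizer ({z} : Set G) with hD
    have h3 : ¬ 3 ∣ Nat.card D := by
      intro hd
      obtain ⟨w', hw'⟩ := exists_prime_orderOf_dvd_card' 3 hd
      rw [← orderOf_coe] at hw'
      obtain ⟨T, hT⟩ := (IsPGroup.of_card (n := 1) (by rw [Nat.card_zpowers, hw', pow_one]) :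
        IsPGroup 3 (zpowers (w' : G))).exists_le_sylow
      have hw1 : (w' : G) ≠ 1 := fun e => by rw [e, orderOf_one] at hw'; omega
      have hzw : z ∈ centralizer ({(w' : G)} : Set G) :=
        mem_centralizer_singleton_iff.2 (commute_of_mem_centralizer w'.2).symm.eq
      rcases (h.exists_inverter T).1 with hT9 | hT18
      · -- the centraliser of `T` is a conjugate of that of `S`
        obtain ⟨g, hg⟩ := MulAction.exists_smul_eq G S T
        have e : Nat.card (centralizer ((T : Subgroup G) : Set G)) =
            Nat.card (centralizer ((S : Subgroup G) : Set G)) := by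
          rw [← hg]
          refine (Nat.card_congr ((MulAut.conj g).toEquiv.subtypeEquiv fun x => ?_)).symm
          show x ∈ centralizer ((S : Subgroup G) : Set G) ↔
            g * x * g⁻¹ ∈ centralizer (((g • S : Sylow 3 G) : Subgroup G) : Set G)
          rw [mem_centralizer_iff, mem_centralizer_iff]
          constructor
          · rintro hx - ⟨a, ha, rfl⟩
            show g * a * g⁻¹ * (g * x * g⁻¹) = g * x * g⁻¹ * (g * a * g⁻¹)
            calc _ = g * (a * x) * g⁻¹ := by group
              _ = g * (x * a) * g⁻¹ := by rw [hx a ha]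
              _ = _ := by group
          · intro hx a ha
            have := hx _ ⟨a, ha, rfl⟩
            change g * a * g⁻¹ * (g * x * g⁻¹) = g * x * g⁻¹ * (g * a * g⁻¹) at this
            calc a * x = g⁻¹ * (g * a * g⁻¹ * (g * x * g⁻¹)) * g := by group
              _ = g⁻¹ * (g * x * g⁻¹ * (g * a * g⁻¹)) * g := by rw [this]
              _ = x * a := by group
        omega
      · obtain ⟨v, hv, -, hvc, hvx, hvu⟩ := key T hT18
        rw [hvx w' (hT (mem_zpowers _)) hw1] at hzw
        rw [hD, hvu z hz hzw, hvc] at h8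
        norm_num at h8
    have h7 := h.seven_not_dvd hz1 (by rw [hz]; norm_num)
    have hle := h.card_le (h.centralizer_ne_top hz1)
    have hkey : ∀ d ∈ Nat.divisors 2520, d ≤ 315 → 8 ∣ d → ¬ 7 ∣ d → ¬ 3 ∣ d → d = 8 ∨ d = 40 := by
      decide +kernel
    rcases hkey _ (Nat.mem_divisors.2 ⟨h.card_dvd D, by norm_num⟩) hle h8 h7 h3 with e | e
    · exact e.le
    · exfalso
      have : Fact (Nat.Prime 5) := ⟨by norm_num⟩
      obtain ⟨q, hq⟩ := exists_prime_orderOf_dvd_card' (G := D) 5 (by rw [e]; norm_num)
      have hq' : orderOf (q : G) = 5 := (Subgroup.orderOf_coe q).trans hq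
      obtain ⟨P, hP⟩ := (IsPGroup.of_card (n := 1) (by rw [Nat.card_zpowers, hq, pow_one]) :
        IsPGroup 5 (zpowers q)).exists_le_sylow
      have hP5 : Nat.card (P : Subgroup D) = 5 := by
        rw [card_sylow_eq_pow (p := 5) (a := 1) (m := 8) (by rw [e]; norm_num) (by norm_num) P]
        norm_num
      have hn5 : Nat.card (Sylow 5 D) = 1 := by
        have h1 := card_sylow_dvd (p := 5) (a := 1) (m := 8) (G := D) (by rw [e]; norm_num) (by norm_num)
        have h2 := card_sylow_mod (G := D) 5
        have key5 : ∀ n ∈ Nat.divisors 8, n % 5 = 1 → n = 1 := by decide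
        exact key5 _ (Nat.mem_divisors.2 ⟨h1, by norm_num⟩) h2
      have hPq : (P : Subgroup D) = zpowers q :=
        (eq_of_le_of_card_ge hP (by rw [hP5, Nat.card_zpowers, hq])).symm
      have : Subsingleton (Sylow 5 D) := (Nat.card_eq_one_iff_unique.1 hn5).1
      have hle5 : D ≤ normalizer ((zpowers (q : G) : Subgroup G) : Set G) := fun g hg => by
        refine Layer.mem_normalizer_of_conj_mem fun x hx => ?_
        have hxm : x ∈ (zpowers q).map D.subtype := by rwa [MonoidHom.map_zpowers]
        obtain ⟨x', hx', rfl⟩ := hxm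
        have hn : (⟨g, hg⟩ : D) ∈ normalizer ((P : Subgroup D) : Set D) :=
          Sylow.smul_eq_iff_mem_normalizer.1 (Subsingleton.elim _ _)
        rw [hPq] at hn
        have hmem := mem_map_of_mem D.subtype ((mem_normalizer_iff.1 hn x').1 hx')
        rw [MonoidHom.map_zpowers] at hmem
        exact hmem
      have := (card_dvd_of_le hle5).trans (h.five hq').1.dvd
      rw [e] at this
      norm_num at this
  -- count
  have hsu : ∀ i, Commute (s i) u := fun i => mem_centralizer_iff.1 huC _ (hsS i)
  have hso : ∀ i, orderOf (s i) ∣ 9 := fun i => hS ▸ (S : Subgroup G).orderOf_dvd_natCard (hsS i)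
  have hsue : ∀ i, 2 ∣ orderOf (s i * u) := fun i => by
    rw [(hsu i).orderOf_mul_eq_mul_orderOf_of_coprime (by
      rw [hu]; exact Nat.Coprime.coprime_dvd_left (hso i) (by norm_num)), hu]
    exact dvd_mul_left 2 _
  have hconjpow : ∀ (a b : G) (n : ℕ), IsConj a b → IsConj (a ^ n) (b ^ n) := fun a b n hab => by
    obtain ⟨g, hg⟩ := isConj_iff.1 hab
    exact isConj_iff.2 ⟨g, by rw [← conj_pow, hg]⟩
  have hsq : ∀ i, (s i) ^ 2 ≠ 1 := fun i e => hs1 i (orderOf_eq_one_iff.1
    (Nat.eq_one_of_dvd_coprimes (by norm_num) (orderOf_dvd_of_pow_eq_one e) (hso i)))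
  have hz2 : z ^ 2 = 1 := hz ▸ pow_orderOf_eq_one z
  have hu2 : u ^ 2 = 1 := hu ▸ pow_orderOf_eq_one u
  have hu1 : u ≠ 1 := fun e => by rw [e, orderOf_one] at hu; omega
  have hordc : ∀ a b : G, IsConj a b → orderOf a = orderOf b := fun a b hab => by
    obtain ⟨g, hg⟩ := isConj_iff.1 hab
    rw [← hg]
    exact (orderOf_injective (MulAut.conj g).toMonoidHom (MulAut.conj g).injective a).symm
  have hodd9 : ∀ i, ¬ 2 ∣ orderOf (s i) := fun i e => by
    have := e.trans (hso i)
    norm_num at this
  have hsu2 : ∀ i, orderOf (s i * u) ≠ 2 := fun i e => by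
    have h1 : (s i * u) ^ 2 = 1 := e ▸ pow_orderOf_eq_one _
    rw [(hsu i).mul_pow, hu2, mul_one] at h1
    exact hsq i h1
  have huz : ¬ IsConj u z := fun hc => by
    obtain ⟨g, hg⟩ := isConj_iff.1 hc
    have h1 : Nat.card (centralizer ({u} : Set G)) = Nat.card (centralizer ({z} : Set G)) :=
      Nat.card_congr ((MulAut.conj g).toEquiv.subtypeEquiv fun x => by
        show x ∈ centralizer ({u} : Set G) ↔ g * x * g⁻¹ ∈ centralizer ({z} : Set G)
        rw [mem_centralizer_singleton_iff, mem_centralizer_singleton_iff, ← hg]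
        constructor <;> intro hx
        · calc g * x * g⁻¹ * (g * u * g⁻¹) = g * (x * u) * g⁻¹ := by group
            _ = g * (u * x) * g⁻¹ := by rw [hx]
            _ = g * u * g⁻¹ * (g * x * g⁻¹) := by group
        · calc x * u = g⁻¹ * (g * x * g⁻¹ * (g * u * g⁻¹)) * g := by group
            _ = g⁻¹ * (g * u * g⁻¹ * (g * x * g⁻¹)) * g := by rw [hx]
            _ = u * x := by group)
    omega
  let f : Fin 4 ⊕ Fin 4 ⊕ Bool → G :=
    Sum.elim s (Sum.elim (fun i => s i * u) (fun t => if t then u else z))
  let bd : Fin 4 ⊕ Fin 4 ⊕ Bool → ℕ :=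
    Sum.elim (fun _ => 18) (Sum.elim (fun _ => 18) (fun t => if t then 36 else 8))
  have hcard18 : ∀ i, Nat.card (centralizer ({s i} : Set G)) = 18 := fun i => by
    rw [hcx _ (hsS i) (hs1 i), h18]
  have hcount := h.count f bd ?_ ?_ ?_
  · simp [bd, Fintype.sum_sum_type, Fintype.sum_bool] at hcount
  · rintro (i | i | t)
    · exact (hcard18 i).le
    · refine (Nat.le_of_dvd Nat.card_pos (card_dvd_of_le ?_)).trans (hcard18 i).le
      intro g hg
      rw [mem_centralizer_singleton_iff]
      have h1 : Commute g ((s i * u) ^ 10) := (commute_of_mem_centralizer hg).pow_right 10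
      rw [(pow_ten_eq h S (hsS i) hu (hsu i)).1] at h1
      exact h1.eq
    · cases t
      · exact hzc
      · exact huc.le
  · rintro (i | i | t)
    · show orderOf (s i) ≠ 5 ∧ orderOf (s i) ≠ 7
      have := hso i
      constructor <;> intro e <;> rw [e] at this <;> norm_num at this
    · show orderOf (s i * u) ≠ 5 ∧ orderOf (s i * u) ≠ 7
      have := hsue i
      constructor <;> intro e <;> rw [e] at this <;> norm_num at this
    · cases t
      · show orderOf z ≠ 5 ∧ orderOf z ≠ 7
        omega
      · show orderOf u ≠ 5 ∧ orderOf u ≠ 7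
        omega
  · have hf2 : ∀ t : Bool, orderOf (if t then u else z) = 2 := fun t => by cases t <;> simp [hu, hz]
    rintro (i | i | t) (j | j | t') hc <;> simp only [f, Sum.elim_inl, Sum.elim_inr] at hc
    · exact congrArg Sum.inl (hsne i j (hfus _ (hsS i) _ (hsS j) hc))
    · exact absurd (hordc _ _ hc ▸ hsue j) (hodd9 i)
    · exact absurd (show 2 ∣ orderOf (s i) by rw [hordc _ _ hc, hf2]) (hodd9 i)
    · exact absurd ((hordc _ _ hc).symm ▸ hsue i) (hodd9 j)
    · have hp := hconjpow _ _ 10 hc
      rw [(pow_ten_eq h S (hsS i) hu (hsu i)).1, (pow_ten_eq h S (hsS j) hu (hsu j)).1] at hp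
      exact congrArg (Sum.inr ∘ Sum.inl) (hsne i j (hfus _ (hsS i) _ (hsS j) hp))
    · exact absurd (by rw [hordc _ _ hc, hf2]) (hsu2 i)
    · exact absurd (show 2 ∣ orderOf (s j) by rw [← hordc _ _ hc, hf2]) (hodd9 j)
    · exact absurd (by rw [← hordc _ _ hc, hf2]) (hsu2 j)
    · cases t <;> cases t'
      · rfl
      · exact absurd hc.symm huz
      · exact absurd hc huz
      · rfl

end Cfsg.Agent.SmallOrder.Order2520
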