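import Cfsg.Agent.SmallOrder.Order2520.Central

/-!
# Order 2520: centralisers in the Sylow three-subgroup have order nine or thirty-six
-/

set_option autoImplicit false

namespace Cfsg.Agent.SmallOrder.Order2520

open Subgroup

variable {G : Type*} [Group G] [Finite G] [IsSimpleGroup G] [Fact (Nat.Prime 3)]

theorem Hyp.centralizer_sylow_eq (h : Hyp G) (S : Sylow 3 G) :
    centralizer ((S : Subgroup G) : Set G) = (S : Subgroup G) := by
  have := h.three_comm S
  exact (eq_of_le_of_card_ge (le_centralizer _)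
    (by rw [h.card_centralizer_sylow S, h.card_sylow_three S])).symm

theorem Hyp.card_range (h : Hyp G) (S : Sylow 3 G) :
    Nat.card (S : Subgroup G).normalizerMonoidHom.range = 4 := by
  set φ := (S : Subgroup G).normalizerMonoidHom with hφ
  have hker : Nat.card φ.ker = 9 := by
    rw [hφ, normalizerMonoidHom_ker, ← h.card_centralizer_sylow S]
    exact Nat.card_congr (subgroupOfEquivOfLe (centralizer_le_normalizer _)).toEquiv
  have hmul := φ.ker.card_mul_index
  rw [index_ker, hker, h.three_normalizer S] at hmul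
  omega

theorem Hyp.act_comm (h : Hyp G) (S : Sylow 3 G) {n m : G}
    (hn : n ∈ normalizer ((S : Subgroup G) : Set G)) (hm : m ∈ normalizer ((S : Subgroup G) : Set G))
    {s : G} (hs : s ∈ (S : Subgroup G)) :
    n * (m * s * m⁻¹) * n⁻¹ = m * (n * s * n⁻¹) * m⁻¹ := by
  have : Fact (Nat.Prime 2) := ⟨Nat.prime_two⟩
  set φ := (S : Subgroup G).normalizerMonoidHom with hφ
  have : IsMulCommutative φ.range :=
    IsPGroup.isMulCommutative_of_card_eq_prime_sq (p := 2) (by rw [h.card_range S]; norm_num)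
  have e := mul_comm' (⟨φ ⟨n, hn⟩, _, rfl⟩ : φ.range) ⟨φ ⟨m, hm⟩, _, rfl⟩
  exact congrArg Subtype.val (DFunLike.congr_fun (congrArg Subtype.val e) ⟨s, hs⟩)

theorem Hyp.centralizer_ne_eighteen (h : Hyp G) (S : Sylow 3 G) {x : G}
    (hxS : x ∈ (S : Subgroup G)) (hx : x ≠ 1) :
    Nat.card (centralizer ({x} : Set G)) ≠ 18 := by
  classical
  intro h18
  have h2 : Fact (Nat.Prime 2) := ⟨Nat.prime_two⟩
  have hS := h.card_sylow_three S
  have hab := h.three_comm S
  set N := normalizer ((S : Subgroup G) : Set G) with hN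
  obtain ⟨-, b, hbN, hb⟩ := h.exists_inverter S
  have hcomm : ∀ p ∈ (S : Subgroup G), ∀ r ∈ (S : Subgroup G), p * r = r * p := fun p hp r hr =>
    congrArg Subtype.val (mul_comm' (⟨p, hp⟩ : (S : Subgroup G)) ⟨r, hr⟩)
  have hcS : ∀ n, (∀ s ∈ (S : Subgroup G), s * n = n * s) → n ∈ (S : Subgroup G) := fun n hn => by
    rw [← h.centralizer_sylow_eq S]
    exact mem_centralizer_iff.2 hn
  have hso : ∀ s ∈ (S : Subgroup G), orderOf s ∣ 9 := fun s hs =>
    hS ▸ (S : Subgroup G).orderOf_dvd_natCard hs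
  have hodd : ∀ w : G, orderOf w = 2 → w ∉ (S : Subgroup G) := fun w hw hwS => by
    have := hso w hwS
    rw [hw] at this
    norm_num at this
  have hsq : ∀ s ∈ (S : Subgroup G), s⁻¹ = s → s = 1 := fun s hs e =>
    orderOf_eq_one_iff.1 (Nat.eq_one_of_dvd_coprimes (by norm_num)
      (orderOf_dvd_of_pow_eq_one (show s ^ 2 = 1 by rw [sq]; exact inv_eq_iff_mul_eq_one.1 e))
      (hso s hs))
  -- an involution of the centraliser
  obtain ⟨a', ha'⟩ := exists_prime_orderOf_dvd_card' (G := centralizer ({x} : Set G)) 2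
    (by rw [h18]; norm_num)
  rw [← orderOf_coe] at ha'
  set a : G := (a' : G) with hadef
  have haN : a ∈ N := (h.three_centralizer S hxS hx).2.1 h18 a'.2
  have haS := hodd a ha'
  have hax : Commute a x := commute_of_mem_centralizer a'.2
  have haa : a * a = 1 := by rw [← sq, ← ha', pow_orderOf_eq_one]
  have hainv : a⁻¹ = a := inv_eq_of_mul_eq_one_right haa
  obtain ⟨w, hwS, hwa⟩ : ∃ w ∈ (S : Subgroup G), a * w * a⁻¹ ≠ w := by
    by_contra! hcon
    exact haS (hcS a fun s hs => (mul_inv_eq_iff_eq_mul.1 (hcon s hs)).symm)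
  set x2 := w * (a * w * a⁻¹)⁻¹ with hx2
  have haw : a * w * a⁻¹ ∈ (S : Subgroup G) := (mem_normalizer_iff.1 haN w).1 hwS
  have hx2S : x2 ∈ (S : Subgroup G) := mul_mem hwS (inv_mem haw)
  have hx21 : x2 ≠ 1 := fun e => hwa (mul_inv_eq_one.1 e).symm
  have hax2 : a * x2 * a⁻¹ = x2⁻¹ := by
    have h1 : a * (a * w * a⁻¹) * a⁻¹ = w := by rw [hainv, show a * (a * w * a) * a = (a * a) * w * (a * a) by group, haa, one_mul, mul_one]
    calc a * x2 * a⁻¹ = (a * w * a⁻¹) * (a * (a * w * a⁻¹) * a⁻¹)⁻¹ := by rw [hx2]; group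
      _ = (a * w * a⁻¹) * w⁻¹ := by rw [h1]
      _ = x2⁻¹ := by rw [hx2, mul_inv_rev, inv_inv]
  have hx2fix : ¬ Commute a x2 := fun e => hx21 (hsq x2 hx2S (by
    rw [← hax2, e.eq, mul_inv_cancel_right]))
  -- fixed and inverted elements are preserved by the normaliser
  have hpresF : ∀ n ∈ N, ∀ s ∈ (S : Subgroup G), a * s * a⁻¹ = s →
      a * (n * s * n⁻¹) * a⁻¹ = n * s * n⁻¹ := fun n hn s hs e => by
    rw [← h.act_comm S hn haN hs, e]
  have hpresI : ∀ n ∈ N, ∀ s ∈ (S : Subgroup G), a * s * a⁻¹ = s⁻¹ →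
      a * (n * s * n⁻¹) * a⁻¹ = (n * s * n⁻¹)⁻¹ := fun n hn s hs e => by
    rw [← h.act_comm S hn haN hs, e]; group
  have haxe : a * x * a⁻¹ = x := mul_inv_eq_iff_eq_mul.2 hax.eq
  -- the third element
  set x3 := x * x2 with hx3
  have hx3S : x3 ∈ (S : Subgroup G) := mul_mem hxS hx2S
  have hx31 : x3 ≠ 1 := fun e => hx2fix (by
    rw [show x2 = x⁻¹ from eq_inv_of_mul_eq_one_right e]; exact hax.inv_right)
  -- the second involution
  have hc2 : ∀ s ∈ (S : Subgroup G), s ≠ 1 → ∀ n ∈ N, n ∉ (S : Subgroup G) → Commute n s →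
      Nat.card (centralizer ({s} : Set G)) = 18 := by
    intro s hs hs1 n hn hnS hns
    rcases (h.three_centralizer S hs hs1).1 with e | e | e
    · refine absurd ?_ hnS
      rw [eq_of_le_of_card_ge (h.sylow_le_centralizer S hs) (by rw [e, hS])]
      exact mem_centralizer_singleton_iff.2 hns.eq
    · exact e
    · exact absurd ((h.three_centralizer S hs hs1).2.2 e n hn hns) hnS
  have hba : Commute (b * a) x2 := by
    refine mul_inv_eq_iff_eq_mul.1 ?_
    rw [show b * a * x2 * (b * a)⁻¹ = b * (a * x2 * a⁻¹) * b⁻¹ by group, hax2,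
      hb _ (inv_mem hx2S), inv_inv]
  have hbaS : b * a ∉ (S : Subgroup G) := fun e => hx (hsq x hxS (by
    calc x⁻¹ = b * x * b⁻¹ := (hb x hxS).symm
      _ = (b * a) * x * (b * a)⁻¹ := by rw [show (b * a) * x * (b * a)⁻¹ = b * (a * x * a⁻¹) * b⁻¹ by group, haxe]
      _ = x := by rw [hcomm _ e x hxS, mul_inv_cancel_right]))
  have h18' := hc2 x2 hx2S hx21 _ (mul_mem hbN haN) hbaS hba
  obtain ⟨c', hc'⟩ := exists_prime_orderOf_dvd_card' (G := centralizer ({x2} : Set G)) 2
    (by rw [h18']; norm_num)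
  rw [← orderOf_coe] at hc'
  set a2 : G := (c' : G) with ha2def
  have hax22 : Commute a2 x2 := commute_of_mem_centralizer c'.2
  -- fusion
  have hfus : ∀ s ∈ (S : Subgroup G), ∀ t ∈ (S : Subgroup G), IsConj s t →
      ∃ n ∈ N, n * s * n⁻¹ = t := by
    intro s hs t ht hst
    obtain ⟨g, hg⟩ := isConj_iff.1 hst
    obtain ⟨n, hn, hn'⟩ := S.conj_eq_normalizer_conj_of_mem s g⁻¹ hs (by rw [inv_inv, hg]; exact ht)
    rw [inv_inv, hg] at hn'
    exact ⟨n⁻¹, inv_mem hn, by rw [inv_inv, ← hn']⟩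
  have hx12 : ¬ IsConj x x2 := fun e => by
    obtain ⟨n, hn, hn'⟩ := hfus x hxS x2 hx2S e
    have := hpresF n hn x hxS haxe
    rw [hn'] at this
    exact hx2fix (mul_inv_eq_iff_eq_mul.1 this)
  have hx13 : ¬ IsConj x x3 := fun e => by
    obtain ⟨n, hn, hn'⟩ := hfus x hxS x3 hx3S e
    have := hpresF n hn x hxS haxe
    rw [hn'] at this
    refine hx2fix ?_
    have h1 : Commute a x3 := mul_inv_eq_iff_eq_mul.1 this
    have := (hax.inv_right).mul_right h1
    rwa [hx3, inv_mul_cancel_left] at this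
  have hx23 : ¬ IsConj x2 x3 := fun e => by
    obtain ⟨n, hn, hn'⟩ := hfus x2 hx2S x3 hx3S e
    have := hpresI n hn x2 hx2S hax2
    rw [hn', hx3, show a * (x * x2) * a⁻¹ = (a * x * a⁻¹) * (a * x2 * a⁻¹) by group, haxe, hax2] at this
    have h' : x * x2⁻¹ = x⁻¹ * x2⁻¹ := this.trans (by
      rw [mul_inv_rev x x2]; exact hcomm _ (inv_mem hx2S) _ (inv_mem hxS))
    exact hx (hsq x hxS (mul_right_cancel h').symm)
  -- the stabiliser of `x3`
  have hst3 : ∀ n ∈ N, Commute n x3 → n ∈ (S : Subgroup G) := by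
    intro n hn hn3
    have hu : n * x * n⁻¹ ∈ (S : Subgroup G) := (mem_normalizer_iff.1 hn x).1 hxS
    have hv : n * x2 * n⁻¹ ∈ (S : Subgroup G) := (mem_normalizer_iff.1 hn x2).1 hx2S
    have hF := hpresF n hn x hxS haxe
    have hI := hpresI n hn x2 hx2S hax2
    set u := n * x * n⁻¹ with hudef
    set v := n * x2 * n⁻¹ with hvdef
    have huv : u * v = x * x2 := by
      rw [hudef, hvdef, show n * x * n⁻¹ * (n * x2 * n⁻¹) = n * (x * x2) * n⁻¹ by group, ← hx3,
        hn3.eq, mul_inv_cancel_right]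
    set d := x⁻¹ * u with hd
    have hd' : d = x2 * v⁻¹ := by
      rw [eq_mul_inv_iff_mul_eq, hd, mul_assoc, huv, inv_mul_cancel_left]
    have hd1 : a * d * a⁻¹ = d := by
      rw [hd, show a * (x⁻¹ * u) * a⁻¹ = (a * x * a⁻¹)⁻¹ * (a * u * a⁻¹) by group, haxe, hF]
    have hd2 : a * d * a⁻¹ = d⁻¹ := by
      rw [hd', show a * (x2 * v⁻¹) * a⁻¹ = (a * x2 * a⁻¹) * (a * v * a⁻¹)⁻¹ by group, hax2, hI,
        inv_inv v, mul_inv_rev x2 v⁻¹, inv_inv v]
      exact hcomm _ (inv_mem hx2S) _ hv
    have hd0 : d = 1 := hsq d (mul_mem (inv_mem hxS) hu) (hd2.symm.trans hd1)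
    have hux : u = x := by rw [← mul_inv_cancel_left x u, ← hd, hd0, mul_one]
    have hvx : v = x2 := by rw [hux, mul_left_cancel_iff] at huv; exact huv
    have hcl : zpowers x ⊔ zpowers x2 = (S : Subgroup G) := by
      refine eq_of_le_of_card_ge (sup_le (zpowers_le.2 hxS) (zpowers_le.2 hx2S)) ?_
      have hlt : Nat.card (zpowers x) < Nat.card ↥(zpowers x ⊔ zpowers x2) := by
        by_contra! hle
        have e := eq_of_le_of_card_ge (le_sup_left : zpowers x ≤ zpowers x ⊔ zpowers x2) hle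
        have hmem : x2 ∈ zpowers x := e ▸ mem_sup_right (mem_zpowers x2)
        obtain ⟨i, hi⟩ := mem_zpowers_iff.1 hmem
        exact hx2fix (hi ▸ hax.zpow_right i)
      have hd9 : Nat.card ↥(zpowers x ⊔ zpowers x2) ∣ 9 :=
        hS ▸ card_dvd_of_le (sup_le (zpowers_le.2 hxS) (zpowers_le.2 hx2S))
      have h3x : 3 ≤ Nat.card (zpowers x) := by
        rw [Nat.card_zpowers]
        have key : ∀ d ∈ Nat.divisors 9, d = 1 ∨ 3 ≤ d := by decide
        exact (key _ (Nat.mem_divisors.2 ⟨hso x hxS, by norm_num⟩)).resolve_left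
          fun e => hx (orderOf_eq_one_iff.1 e)
      have key : ∀ d ∈ Nat.divisors 9, 3 < d → 9 ≤ d := by decide
      rw [hS]
      exact key _ (Nat.mem_divisors.2 ⟨hd9, by norm_num⟩) (by omega)
    refine hcS n fun s hs => ?_
    have hle : zpowers x ⊔ zpowers x2 ≤ centralizer ({n} : Set G) := by
      refine sup_le (zpowers_le.2 ?_) (zpowers_le.2 ?_) <;> rw [mem_centralizer_singleton_iff]
      · exact (mul_inv_eq_iff_eq_mul.1 hux).symm
      · exact (mul_inv_eq_iff_eq_mul.1 hvx).symm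
    exact mem_centralizer_singleton_iff.1 (hle (hcl.symm ▸ hs))
  have h3ne18 : Nat.card (centralizer ({x3} : Set G)) ≠ 18 := fun e => by
    have hle : centralizer ({x3} : Set G) ≤ (S : Subgroup G) := fun g hg =>
      hst3 g ((h.three_centralizer S hx3S hx31).2.1 e hg) (commute_of_mem_centralizer hg)
    have := Nat.le_of_dvd Nat.card_pos (card_dvd_of_le hle)
    omega
  -- centralisers of the mixed elements
  have hmix : ∀ s ∈ (S : Subgroup G), ∀ c : G, orderOf c = 2 → Commute s c → ∀ m : ℕ,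
      Nat.card (centralizer ({s} : Set G)) = m →
      Nat.card (centralizer ({s * c} : Set G)) ∣ m ∧
      ¬ 9 ∣ Nat.card (centralizer ({s * c} : Set G)) := by
    intro s hs c hc hsc m hm
    obtain ⟨h10, h9⟩ := pow_ten_eq h S hs hc hsc
    have hp : ∀ g ∈ centralizer ({s * c} : Set G), Commute g s ∧ Commute g c := fun g hg =>
      ⟨h10 ▸ (commute_of_mem_centralizer hg).pow_right 10, h9 ▸ (commute_of_mem_centralizer hg).pow_right 9⟩
    refine ⟨hm ▸ card_dvd_of_le (fun g hg => mem_centralizer_singleton_iff.2 (hp g hg).1.eq),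
      fun hd => ?_⟩
    obtain ⟨T, hT⟩ := Sylow.exists_subgroup_card_pow_prime (p := 3) (n := 2) (G :=
      centralizer ({s * c} : Set G)) (by simpa using hd)
    obtain ⟨P, hP⟩ := (IsPGroup.of_card (n := 2) (by
      rw [← Nat.card_congr (T.equivMapOfInjective _ (centralizer ({s * c} : Set G)).subtype_injective).toEquiv, hT]) :
      IsPGroup 3 (T.map (centralizer ({s * c} : Set G)).subtype)).exists_le_sylow
    have hPT := eq_of_le_of_card_ge hP (by
      rw [← Nat.card_congr (T.equivMapOfInjective _ (centralizer ({s * c} : Set G)).subtype_injective).toEquiv, hT,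
        h.card_sylow_three P]; norm_num)
    have hcP : c ∈ centralizer ((P : Subgroup G) : Set G) := mem_centralizer_iff.2 fun g hg => by
      rw [← hPT] at hg
      obtain ⟨g', -, rfl⟩ := hg
      exact (hp _ g'.2).2.eq
    rw [h.centralizer_sylow_eq P] at hcP
    have := (P : Subgroup G).orderOf_dvd_natCard hcP
    rw [hc, h.card_sylow_three P] at this
    norm_num at this
  have hbase : ∀ (base : Fin 3 → G), base = ![x, x2, x3] → ∀ i j, IsConj (base i) (base j) → i = j := by
    rintro base rfl i j hij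
    fin_cases i <;> fin_cases j <;> first
      | rfl
      | exact absurd hij hx12
      | exact absurd hij.symm hx12
      | exact absurd hij hx13
      | exact absurd hij.symm hx13
      | exact absurd hij hx23
      | exact absurd hij.symm hx23
  let base : Fin 3 → G := ![x, x2, x3]
  have hbS : ∀ i, base i ∈ (S : Subgroup G) := by intro i; fin_cases i <;> assumption
  have hb1 : ∀ i, base i ≠ 1 := by intro i; fin_cases i <;> assumption
  have hgen : ∀ (m : ℕ) (e : Fin m → Fin 3) (c : Fin m → G), Function.Injective e →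
      (∀ j, orderOf (c j) = 2 ∧ Commute (base (e j)) (c j)) →
      ∀ (bb : Fin 3 → ℕ) (bm : Fin m → ℕ),
      (∀ i, Nat.card (centralizer ({base i} : Set G)) ≤ bb i) →
      (∀ j, Nat.card (centralizer ({base (e j) * c j} : Set G)) ≤ bm j) →
      1224 + (∑ i, 2520 / bb i + ∑ j, 2520 / bm j) ≤ 2520 := by
    intro m e c he hc bb bm hbb hbm
    have hev : ∀ j, 2 ∣ orderOf (base (e j) * c j) := fun j => by
      rw [(hc j).2.orderOf_mul_eq_mul_orderOf_of_coprime (by
        rw [(hc j).1]; exact Nat.Coprime.coprime_dvd_left (hso _ (hbS _)) (by norm_num)), (hc j).1]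
      exact dvd_mul_left 2 _
    have hod : ∀ i, ¬ 2 ∣ orderOf (base i) := fun i e => by
      have := e.trans (hso _ (hbS i))
      norm_num at this
    have hordc : ∀ p r : G, IsConj p r → orderOf p = orderOf r := fun p r hpr => by
      obtain ⟨g, hg⟩ := isConj_iff.1 hpr
      rw [← hg]
      exact (orderOf_injective (MulAut.conj g).toMonoidHom (MulAut.conj g).injective p).symm
    have := h.count (Sum.elim base (fun j => base (e j) * c j)) (Sum.elim bb bm) ?_ ?_ ?_
    · simpa [Fintype.sum_sum_type] using this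
    · rintro (i | j)
      · exact hbb i
      · exact hbm j
    · rintro (i | j)
      · show orderOf (base i) ≠ 5 ∧ orderOf (base i) ≠ 7
        have := hso _ (hbS i)
        constructor <;> intro e' <;> rw [e'] at this <;> norm_num at this
      · show orderOf (base (e j) * c j) ≠ 5 ∧ orderOf (base (e j) * c j) ≠ 7
        have := hev j
        constructor <;> intro e' <;> rw [e'] at this <;> norm_num at this
    · rintro (i | i) (j | j) hij <;> simp only [Sum.elim_inl, Sum.elim_inr] at hij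
      · exact congrArg Sum.inl (hbase base rfl i j hij)
      · exact absurd ((hordc _ _ hij).symm ▸ hev j) (hod i)
      · exact absurd (hordc _ _ hij ▸ hev i) (hod j)
      · obtain ⟨g, hg⟩ := isConj_iff.1 hij
        have hp : IsConj (base (e i)) (base (e j)) := isConj_iff.2 ⟨g, by
          rw [← (pow_ten_eq h S (hbS _) (hc i).1 (hc i).2).1, ← conj_pow, hg,
            (pow_ten_eq h S (hbS _) (hc j).1 (hc j).2).1]⟩
        exact congrArg Sum.inr (he (hbase base rfl _ _ hp))
  have hle6 : ∀ s ∈ (S : Subgroup G), ∀ c : G, orderOf c = 2 → Commute s c →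
      Nat.card (centralizer ({s} : Set G)) = 18 →
      Nat.card (centralizer ({s * c} : Set G)) ≤ 6 := by
    intro s hs c hc hsc hsm
    obtain ⟨hd, h9⟩ := hmix s hs c hc hsc 18 hsm
    have key : ∀ d ∈ Nat.divisors 18, ¬ 9 ∣ d → d ≤ 6 := by decide
    exact key _ (Nat.mem_divisors.2 ⟨hd, by norm_num⟩) h9
  rcases (h.three_centralizer S hx3S hx31).1 with e3 | e3 | e3
  · have := hgen 2 ![0, 1] ![a, a2] (by decide) (by
      intro j; fin_cases j
      · exact ⟨ha', hax.symm⟩
      · exact ⟨hc', hax22.symm⟩) ![18, 18, 9] ![6, 6] (by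
      intro i; fin_cases i
      · exact h18.le
      · exact h18'.le
      · exact e3.le) (by
      intro j; fin_cases j
      · exact hle6 x hxS a ha' hax.symm h18
      · exact hle6 x2 hx2S a2 hc' hax22.symm h18')
    norm_num [Fin.sum_univ_succ] at this
  · exact h3ne18 e3
  · obtain ⟨v', hv'⟩ := exists_prime_orderOf_dvd_card' (G := centralizer ({x3} : Set G)) 2
      (by rw [e3]; norm_num)
    rw [← orderOf_coe] at hv'
    have hv3 : Commute x3 (v' : G) := (commute_of_mem_centralizer v'.2).symm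
    have := hgen 3 ![0, 1, 2] ![a, a2, (v' : G)] (by decide) (by
      intro j; fin_cases j
      · exact ⟨ha', hax.symm⟩
      · exact ⟨hc', hax22.symm⟩
      · exact ⟨hv', hv3⟩) ![18, 18, 36] ![6, 6, 12] (by
      intro i; fin_cases i
      · exact h18.le
      · exact h18'.le
      · exact e3.le) (by
      intro j; fin_cases j
      · exact hle6 x hxS a ha' hax.symm h18
      · exact hle6 x2 hx2S a2 hc' hax22.symm h18'
      · obtain ⟨hd, h9⟩ := hmix x3 hx3S v' hv' hv3 36 e3
        have key : ∀ d ∈ Nat.divisors 36, ¬ 9 ∣ d → d ≤ 12 := by decide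
        exact key _ (Nat.mem_divisors.2 ⟨hd, by norm_num⟩) h9)
    norm_num [Fin.sum_univ_succ] at this

theorem Hyp.centralizer_nine_or (h : Hyp G) (S : Sylow 3 G) {x : G} (hxS : x ∈ (S : Subgroup G))
    (hx : x ≠ 1) :
    (centralizer ({x} : Set G) = (S : Subgroup G) ∨
      Nat.card (centralizer ({x} : Set G)) = 36) ∧
    ∀ n ∈ normalizer ((S : Subgroup G) : Set G), Commute n x → n ∈ (S : Subgroup G) := by
  rcases (h.three_centralizer S hxS hx).1 with e | e | e
  · have he : centralizer ({x} : Set G) = (S : Subgroup G) := (eq_of_le_of_card_ge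
      (h.sylow_le_centralizer S hxS) (by rw [e, h.card_sylow_three S])).symm
    exact ⟨Or.inl he, fun n _ hn => he ▸ mem_centralizer_singleton_iff.2 hn.eq⟩
  · exact absurd e (h.centralizer_ne_eighteen S hxS hx)
  · exact ⟨Or.inr e, (h.three_centralizer S hxS hx).2.2 e⟩

theorem Hyp.exponent_three (h : Hyp G) (S : Sylow 3 G) {s : G} (hs : s ∈ (S : Subgroup G)) :
    s ^ 3 = 1 := by
  have hS := h.card_sylow_three S
  have hd : orderOf s ∣ 3 ^ 2 := by
    have := (S : Subgroup G).orderOf_dvd_natCard hs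
    rwa [hS] at this
  obtain ⟨i, hi, hio⟩ := (Nat.dvd_prime_pow Nat.prime_three).1 hd
  interval_cases i
  · rw [pow_zero, orderOf_eq_one_iff] at hio; rw [hio, one_pow]
  · rw [pow_one] at hio; rw [← hio, pow_orderOf_eq_one]
  · exfalso
    have : IsCyclic (S : Subgroup G) :=
      isCyclic_of_orderOf_eq_card (⟨s, hs⟩ : (S : Subgroup G)) (by rw [Subgroup.orderOf_mk, hio, hS]; norm_num)
    have h1 := (S : Subgroup G).normalizerMonoidHom.range.card_subgroup_dvd_card
    rw [h.card_range S, IsCyclic.card_mulAut, hS] at h1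
    revert h1
    decide

/-- Two elements of order three spanning a Sylow subgroup with centralisers of order thirty-six. -/
theorem Hyp.exists_pair (h : Hyp G) : ∃ (S : Sylow 3 G) (y w : G),
    y ∈ (S : Subgroup G) ∧ w ∈ (S : Subgroup G) ∧ y ≠ 1 ∧ w ∉ zpowers y ∧
    Nat.card (centralizer ({y} : Set G)) = 36 ∧ Nat.card (centralizer ({w} : Set G)) = 36 := by
  classical
  obtain ⟨S⟩ : Nonempty (Sylow 3 G) := Sylow.nonempty
  have hS := h.card_sylow_three S
  set φ := (S : Subgroup G).normalizerMonoidHom with hφ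
  have hR := h.card_range S
  have hinj : ∀ y ∈ (S : Subgroup G), y ≠ 1 → ∀ (hy : y ∈ (S : Subgroup G)),
      Function.Injective (fun τ : φ.range => (τ : MulAut (S : Subgroup G)) ⟨y, hy⟩) := by
    intro y hyS hy1 hy
    rintro ⟨τ, n, rfl⟩ ⟨τ', m, rfl⟩ e
    have he : (n : G) * y * (n : G)⁻¹ = (m : G) * y * (m : G)⁻¹ := congrArg Subtype.val e
    have hc : Commute ((m : G)⁻¹ * n) y := by
      refine mul_inv_eq_iff_eq_mul.1 ?_
      rw [show (m : G)⁻¹ * n * y * ((m : G)⁻¹ * n)⁻¹ = (m : G)⁻¹ * ((n : G) * y * (n : G)⁻¹) * m by group,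
        he]
      group
    have hS' := (h.centralizer_nine_or S hyS hy1).2 _ (mul_mem (inv_mem m.2) n.2) hc
    refine Subtype.ext ?_
    show φ n = φ m
    have hk : (m⁻¹ * n : normalizer ((S : Subgroup G) : Set G)) ∈ φ.ker := by
      rw [hφ, normalizerMonoidHom_ker, mem_subgroupOf, h.centralizer_sylow_eq S]
      exact hS'
    rw [MonoidHom.mem_ker, map_mul, map_inv, inv_mul_eq_one] at hk
    exact hk.symm
  obtain ⟨y, hyS, hy1, hy36⟩ : ∃ y ∈ (S : Subgroup G), y ≠ 1 ∧
      Nat.card (centralizer ({y} : Set G)) = 36 := by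
    by_contra! hcon
    have hne : Nontrivial (S : Subgroup G) := Finite.one_lt_card_iff_nontrivial.1 (by rw [hS]; norm_num)
    obtain ⟨⟨a, haS⟩, ha⟩ := exists_ne (1 : (S : Subgroup G))
    have ha1 : a ≠ 1 := fun e => ha (Subtype.ext e)
    let F : φ.range → (S : Subgroup G) := fun τ => (τ : MulAut (S : Subgroup G)) ⟨a, haS⟩
    obtain ⟨⟨b, hbS⟩, hb⟩ : ∃ b : (S : Subgroup G), b ≠ 1 ∧ ∀ τ, F τ ≠ b := by
      by_contra! hc
      have hsurj : Function.Surjective (fun o : Option φ.range => o.elim 1 F) := fun b => by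
        by_cases e : b = 1
        · exact ⟨none, e.symm⟩
        · obtain ⟨τ, hτ⟩ := hc b e
          exact ⟨some τ, hτ⟩
      have := Nat.card_le_card_of_surjective _ hsurj
      rw [Finite.card_option, hR, hS] at this
      omega
    have hb1 : b ≠ 1 := fun e => hb.1 (Subtype.ext e)
    have ho : ∀ s ∈ (S : Subgroup G), s ≠ 1 → orderOf s = 3 := fun s hs hs1 =>
      orderOf_eq_prime (h.exponent_three S hs) hs1
    have := h.three_comm S
    have hA6 := Cfsg.Agent.S3341.result S (S : Subgroup G) rfl this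
      (fun s hs => h.exponent_three S hs) hS
      ⟨a, b, ho a haS ha1, ho b hbS hb1, fun g hg => by
        obtain ⟨n, hn, hn'⟩ := S.conj_eq_normalizer_conj_of_mem a g⁻¹ haS (by rw [inv_inv, hg]; exact hbS)
        rw [inv_inv, hg] at hn'
        exact hb.2 ⟨φ ⟨n⁻¹, inv_mem hn⟩, _, rfl⟩ (Subtype.ext (by
          show n⁻¹ * a * n⁻¹⁻¹ = b
          rw [inv_inv, ← hn']))⟩
      (fun s hs hs1 => ((h.centralizer_nine_or S hs hs1).1).resolve_right (hcon s hs hs1))
    obtain ⟨e⟩ := hA6
    have hc := Nat.card_congr e.toEquiv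
    have hA : 2 * Nat.card (alternatingGroup (Fin 6)) = 720 := by
      rw [two_mul_nat_card_alternatingGroup, Nat.card_perm, Nat.card_fin]; rfl
    rw [h.card] at hc
    omega
  -- some conjugate of `y` under the normaliser is not a power of `y`
  obtain ⟨τ, hτ⟩ : ∃ τ : φ.range, (((τ : MulAut (S : Subgroup G)) ⟨y, hyS⟩ : (S : Subgroup G)) : G) ∉ zpowers y := by
    by_contra! hcon
    let F : φ.range → zpowers y := fun τ => ⟨_, hcon τ⟩
    have hF : Function.Injective F := fun p r e =>
      hinj y hyS hy1 hyS (Subtype.ext (congrArg (fun z : zpowers y => (z : G)) e))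
    have := Nat.card_le_card_of_injective F hF
    rw [hR, Nat.card_zpowers, orderOf_eq_prime (h.exponent_three S hyS) hy1] at this
    omega
  obtain ⟨n, hn⟩ := τ.2
  refine ⟨S, y, _, hyS, ((τ : MulAut (S : Subgroup G)) ⟨y, hyS⟩).2, hy1, hτ, hy36, ?_⟩
  rw [← hy36, ← hn]
  refine (Nat.card_congr ((MulAut.conj (n : G)).toEquiv.subtypeEquiv fun g => ?_)).symm
  show g ∈ centralizer ({y} : Set G) ↔
    (n : G) * g * (n : G)⁻¹ ∈ centralizer ({(n : G) * y * (n : G)⁻¹} : Set G)
  rw [mem_centralizer_singleton_iff, mem_centralizer_singleton_iff]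
  constructor <;> intro hx
  · calc (n : G) * g * (n : G)⁻¹ * ((n : G) * y * (n : G)⁻¹) = (n : G) * (g * y) * (n : G)⁻¹ := by group
      _ = (n : G) * (y * g) * (n : G)⁻¹ := by rw [hx]
      _ = _ := by group
  · calc g * y = (n : G)⁻¹ * ((n : G) * g * (n : G)⁻¹ * ((n : G) * y * (n : G)⁻¹)) * n := by group
      _ = (n : G)⁻¹ * ((n : G) * y * (n : G)⁻¹ * ((n : G) * g * (n : G)⁻¹)) * n := by rw [hx]
      _ = y * g := by group

end Cfsg.Agent.SmallOrder.Order2520
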