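import Cfsg.Agent.SmallOrder.Parity
import Cfsg.Agent.SmallOrder.Perm
import Cfsg.Agent.SmallOrder.Local
import Cfsg.Agent.Layer.Subnormal

/-!
# A simple group of order 2520 without a subgroup of index seven: Sylow normalisers
-/

set_option autoImplicit false

namespace Cfsg.Agent.SmallOrder.Order2520

open Subgroup

variable {G : Type*} [Group G] [Finite G] [IsSimpleGroup G]

/-- The standing hypothesis. -/
structure Hyp (G : Type*) [Group G] : Prop where
  card : Nat.card G = 2520
  index_large : ∀ H : Subgroup G, H ≠ ⊤ → 7 < H.index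

theorem Hyp.not_comm (h : Hyp G) : ¬ IsMulCommutative G :=
  not_comm_of_card (by rw [h.card]; norm_num)

theorem Hyp.centralizer_ne_top (h : Hyp G) {x : G} (hx : x ≠ 1) :
    centralizer ({x} : Set G) ≠ ⊤ := fun e => by
  have : x ∈ center G := mem_center_iff.2 fun g =>
    mem_centralizer_singleton_iff.1 (e ▸ mem_top g : g ∈ _)
  rw [center_eq_bot h.not_comm, mem_bot] at this
  exact hx this

theorem Hyp.card_le (h : Hyp G) {H : Subgroup G} (hH : H ≠ ⊤) : Nat.card H ≤ 315 := by
  have h1 := H.card_mul_index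
  rw [h.card] at h1
  have h2 := h.index_large H hH
  nlinarith

theorem Hyp.card_dvd (h : Hyp G) (H : Subgroup G) : Nat.card H ∣ 2520 :=
  h.card ▸ card_subgroup_dvd_card H

omit [Finite G] [IsSimpleGroup G] in
theorem commute_of_mem_centralizer {x g : G} (h : g ∈ centralizer ({x} : Set G)) : Commute g x :=
  mem_centralizer_singleton_iff.1 h

omit [Finite G] [IsSimpleGroup G] in
theorem centralizer_zpowers (x : G) :
    centralizer ((zpowers x : Subgroup G) : Set G) = centralizer ({x} : Set G) := by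
  rw [zpowers_eq_closure, centralizer_closure]

omit [Finite G] [IsSimpleGroup G] in
theorem centralizer_le_normalizer_zpowers (x : G) :
    centralizer ({x} : Set G) ≤ normalizer ((zpowers x : Subgroup G) : Set G) := by
  rw [← centralizer_zpowers]
  exact centralizer_le_normalizer _

/-- An element of prime order `q` generating a Sylow subgroup has `|N| ∣ (q - 1) |C|`. -/
theorem prime_normalizer_dvd {q : ℕ} [Fact q.Prime] {y : G} (hy : orderOf y = q) :
    Nat.card (normalizer ((zpowers y : Subgroup G) : Set G)) ∣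
      (q - 1) * Nat.card (centralizer ({y} : Set G)) ∧
    (Nat.card (normalizer ((zpowers y : Subgroup G) : Set G)) =
        Nat.card (centralizer ({y} : Set G)) →
      normalizer ((zpowers y : Subgroup G) : Set G) ≤
        centralizer ((zpowers y : Subgroup G) : Set G)) := by
  obtain ⟨e, he, hN, h1⟩ := exists_normalizer_index (zpowers y)
  rw [centralizer_zpowers] at hN
  refine ⟨?_, fun h2 => h1 ?_⟩
  · rw [hN, mul_comm]
    have h2 : Nat.card (MulAut (zpowers y)) = q - 1 := card_mulAut_of_prime (by rw [Nat.card_zpowers, hy])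
    exact Nat.mul_dvd_mul_right (h2 ▸ he) _
  · rw [hN] at h2
    exact (Nat.mul_eq_left Nat.card_pos.ne').1 h2

omit [IsSimpleGroup G] in
theorem exists_sylow_eq_zpowers {q : ℕ} [Fact q.Prime] {y : G} (hy : orderOf y = q)
    (h : ∀ P : Sylow q G, Nat.card (P : Subgroup G) = q) :
    ∃ P : Sylow q G, (P : Subgroup G) = zpowers y := by
  obtain ⟨P, hP⟩ := (IsPGroup.of_card (n := 1) (by rw [Nat.card_zpowers, hy, pow_one]) :
    IsPGroup q (zpowers y)).exists_le_sylow
  exact ⟨P, (eq_of_le_of_card_ge hP (by rw [h, Nat.card_zpowers, hy])).symm⟩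

theorem Hyp.card_sylow_seven (h : Hyp G) [Fact (Nat.Prime 7)] (P : Sylow 7 G) :
    Nat.card (P : Subgroup G) = 7 := by
  rw [card_sylow_eq_pow (p := 7) (a := 1) (m := 360) (by rw [h.card]; norm_num) (by norm_num) P]
  norm_num

theorem Hyp.card_sylow_five (h : Hyp G) [Fact (Nat.Prime 5)] (P : Sylow 5 G) :
    Nat.card (P : Subgroup G) = 5 := by
  rw [card_sylow_eq_pow (p := 5) (a := 1) (m := 504) (by rw [h.card]; norm_num) (by norm_num) P]
  norm_num

theorem Hyp.card_sylow_three (h : Hyp G) [Fact (Nat.Prime 3)] (P : Sylow 3 G) :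
    Nat.card (P : Subgroup G) = 9 := by
  rw [card_sylow_eq_pow (p := 3) (a := 2) (m := 280) (by rw [h.card]; norm_num) (by norm_num) P]
  norm_num

/-- The Burnside alternative is absent. -/
theorem Hyp.prime_card_ne (h : Hyp G) {q : ℕ} [Fact q.Prime] {y : G} (hy : orderOf y = q)
    (hq : q ∣ Nat.card G) (hs : ∀ P : Sylow q G, Nat.card (P : Subgroup G) = q) :
    Nat.card (normalizer ((zpowers y : Subgroup G) : Set G)) ≠
      Nat.card (centralizer ({y} : Set G)) := by
  intro e
  obtain ⟨P, hP⟩ := exists_sylow_eq_zpowers hy hs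
  refine not_normalizer_le_centralizer h.not_comm hq P ?_
  rw [hP]
  exact (prime_normalizer_dvd hy).2 e

theorem Hyp.five_prelim (h : Hyp G) {q : G} (hq : orderOf q = 5) :
    (Nat.card (normalizer ((zpowers q : Subgroup G) : Set G)) = 120 ∨
     Nat.card (normalizer ((zpowers q : Subgroup G) : Set G)) = 70 ∨
     Nat.card (normalizer ((zpowers q : Subgroup G) : Set G)) = 20) ∧
    5 ∣ Nat.card (centralizer ({q} : Set G)) := by
  have : Fact (Nat.Prime 5) := ⟨by norm_num⟩
  obtain ⟨P, hP⟩ := exists_sylow_eq_zpowers hq h.card_sylow_five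
  have h5C : 5 ∣ Nat.card (centralizer ({q} : Set G)) := by
    rw [← hq]
    exact (centralizer ({q} : Set G)).orderOf_dvd_natCard
      (mem_centralizer_singleton_iff.2 rfl)
  refine ⟨?_, h5C⟩
  obtain ⟨h1, h2, h3, h4⟩ := sylow_data (p := 5) (a := 1) (m := 504)
    (by rw [h.card]; norm_num) one_ne_zero (by norm_num) h.not_comm
  have hmul := card_sylow_mul_card_normalizer P
  have hne := h.prime_card_ne hq (by rw [h.card]; norm_num) h.card_sylow_five
  have hdv := (prime_normalizer_dvd hq).1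
  have hCN := card_dvd_of_le (centralizer_le_normalizer_zpowers q)
  rw [hP, h.card] at hmul
  obtain ⟨n, hn⟩ : ∃ n, Nat.card (Sylow 5 G) = n := ⟨_, rfl⟩
  rw [hn, h.card] at h4
  rw [hn] at h1 h2 h3 hmul
  obtain ⟨N, hN⟩ : ∃ N, Nat.card (normalizer ((zpowers q : Subgroup G) : Set G)) = N := ⟨_, rfl⟩
  rw [hN] at hmul hne hdv hCN ⊢
  have key : ∀ n ∈ Nat.divisors 504, n % 5 = 1 → n ≠ 1 →
      n = 6 ∨ n = 21 ∨ n = 36 ∨ n = 56 ∨ n = 126 := by decide
  rcases key n (Nat.mem_divisors.2 ⟨h1, by norm_num⟩) h2 h3 with rfl | rfl | rfl | rfl | rfl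
  · norm_num [Nat.factorial] at h4
  · exact Or.inl (by omega)
  · exact Or.inr (Or.inl (by omega))
  · -- an odd normaliser
    exfalso
    obtain rfl : N = 45 := by omega
    obtain ⟨c, hc⟩ : ∃ c, Nat.card (centralizer ({q} : Set G)) = c := ⟨_, rfl⟩
    rw [hc] at hne hdv hCN
    have key' : ∀ c ∈ Nat.divisors 45, c = 45 ∨ ¬ 45 ∣ (5 - 1) * c := by decide
    rcases key' c (Nat.mem_divisors.2 ⟨hCN, by norm_num⟩) with e | e
    · exact hne e.symm
    · exact e hdv
  · exact Or.inr (Or.inr (by omega))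

omit [Finite G] [IsSimpleGroup G] in
theorem mem_zpowers_of_pow_eq_one {a b : G} (hab : Commute a b) {m n : ℕ} (ha : orderOf a = m)
    (hb : orderOf b = n) (hmn : Nat.Coprime m n) {x : G} (hx : x ∈ zpowers (a * b)) (hxm : x ^ m = 1) :
    x ∈ zpowers a := by
  obtain ⟨i, rfl⟩ := mem_zpowers_iff.1 hx
  subst ha hb
  have ha1 : a ^ (i * (orderOf a : ℤ)) = 1 := by
    rw [← orderOf_dvd_iff_zpow_eq_one]; exact dvd_mul_left _ _
  rw [← zpow_natCast, ← zpow_mul, hab.mul_zpow, ha1, one_mul,
    ← orderOf_dvd_iff_zpow_eq_one] at hxm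
  have hni : (orderOf b : ℤ) ∣ i :=
    Int.dvd_of_dvd_mul_left_of_gcd_one hxm (by rw [Int.gcd_natCast_natCast]; exact hmn.symm)
  rw [hab.mul_zpow, orderOf_dvd_iff_zpow_eq_one.1 hni, mul_one]
  exact zpow_mem (mem_zpowers a) i

omit [Finite G] [IsSimpleGroup G] in
/-- An involution normalising, but not centralising, a group of prime order inverts it. -/
theorem conj_eq_inv_of_prime {p : ℕ} [hp : Fact p.Prime] {a t : G} (ha : orderOf a = p)
    (ht : orderOf t = 2) (htn : t * a * t⁻¹ ∈ zpowers a) (hnc : ¬ Commute t a) :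
    t * a * t⁻¹ = a⁻¹ := by
  obtain ⟨k, hk⟩ := mem_zpowers_iff.1 htn
  have htt : t⁻¹ = t := inv_eq_of_mul_eq_one_right (by rw [← sq, ← ht, pow_orderOf_eq_one])
  have h2 : a ^ (k * k) = a := by
    rw [zpow_mul, hk, conj_zpow, hk, htt]
    have : t * t = 1 := by rw [← sq, ← ht, pow_orderOf_eq_one]
    calc t * (t * a * t) * t = t * t * a * (t * t) := by group
      _ = a := by rw [this, one_mul, mul_one]
  have h3 : a ^ (k * k - 1) = 1 := by rw [zpow_sub_one, h2, mul_inv_cancel]
  rw [← orderOf_dvd_iff_zpow_eq_one, ha, show k * k - 1 = (k - 1) * (k + 1) by ring] at h3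
  rcases (Nat.prime_iff_prime_int.1 hp.out).dvd_mul.1 h3 with e | e
  · refine absurd ?_ hnc
    have h1 : a ^ k = a := by
      rw [show k = (k - 1) + 1 by ring, zpow_add_one, orderOf_dvd_iff_zpow_eq_one.1 (ha ▸ e), one_mul]
    rw [h1] at hk
    exact (mul_inv_eq_iff_eq_mul.1 hk.symm)
  · rw [← hk, eq_inv_iff_mul_eq_one, ← zpow_add_one]
    exact orderOf_dvd_iff_zpow_eq_one.1 (ha ▸ e)

/-- With thirty-six Sylow seven-subgroups an involution of the normaliser moves too few cosets. -/
theorem Hyp.seven_not_thirtysix (h : Hyp G) {y : G} (hy : orderOf y = 7)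
    (hN : Nat.card (normalizer ((zpowers y : Subgroup G) : Set G)) = 70) : False := by
  have : Fact (Nat.Prime 7) := ⟨by norm_num⟩
  have : Fact (Nat.Prime 5) := ⟨by norm_num⟩
  have : Fact (Nat.Prime 2) := ⟨Nat.prime_two⟩
  set N := normalizer ((zpowers y : Subgroup G) : Set G) with hNdef
  set C := centralizer ({y} : Set G) with hCdef
  obtain ⟨P, hP⟩ := exists_sylow_eq_zpowers hy h.card_sylow_seven
  have hne := h.prime_card_ne hy (by rw [h.card]; norm_num) h.card_sylow_seven
  have hdv : 70 ∣ 6 * Nat.card C := hN ▸ (prime_normalizer_dvd hy).1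
  have hCN := card_dvd_of_le (centralizer_le_normalizer_zpowers y)
  rw [← hNdef, hN] at hCN
  rw [← hNdef, hN] at hne
  have hC : Nat.card C = 35 := by
    have key : ∀ c ∈ Nat.divisors 70, 70 ∣ 6 * c → c = 35 ∨ c = 70 := by decide
    exact (key _ (Nat.mem_divisors.2 ⟨hCN, by norm_num⟩) hdv).resolve_right
      fun e => hne e.symm
  obtain ⟨q', hq'⟩ := exists_prime_orderOf_dvd_card' (G := C) 5 (by rw [hC]; norm_num)
  set q : G := (q' : G) with hqdef
  have hq : orderOf q = 5 := (Subgroup.orderOf_coe q').trans hq'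
  have hqy : Commute q y := mem_centralizer_singleton_iff.1 q'.2
  -- the normaliser of the five-element is the same
  set M := normalizer ((zpowers q : Subgroup G) : Set G) with hMdef
  obtain ⟨hM, -⟩ := h.five_prelim hq
  rw [← hMdef] at hM
  have hyM : y ∈ M := centralizer_le_normalizer_zpowers q (mem_centralizer_singleton_iff.2 hqy.symm.eq)
  have h7M : 7 ∣ Nat.card M := hy ▸ M.orderOf_dvd_natCard hyM
  have hM70 : Nat.card M = 70 := by
    rcases hM with e | e | e <;> rw [e] at h7M <;> first | exact e | norm_num at h7M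
  have hCy : C = zpowers (q * y) := by
    refine (eq_of_le_of_card_ge (zpowers_le.2 (mul_mem q'.2 (mem_centralizer_singleton_iff.2 rfl))) ?_).symm
    rw [Nat.card_zpowers, hqy.orderOf_mul_eq_mul_orderOf_of_coprime (by rw [hq, hy]; norm_num),
      hq, hy, hC]
  set c := q * y with hc
  have hco : orderOf c = 35 := by
    rw [hc, hqy.orderOf_mul_eq_mul_orderOf_of_coprime (by rw [hq, hy]; norm_num), hq, hy]
  have hNM : N = M := by
    refine eq_of_le_of_card_ge (fun g hg => ?_) (by rw [hN, hM70])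
    -- `g` normalises the cyclic centraliser, hence its subgroup of order five
    refine Layer.mem_normalizer_of_conj_mem fun x hx => ?_
    have hxC : x ∈ C := (zpowers_le.2 q'.2 : zpowers q ≤ C) hx
    have hgC : g * x * g⁻¹ ∈ C := by
      have hgy : g⁻¹ * y * g ∈ zpowers y := by
        simpa using (mem_normalizer_iff.1 (inv_mem hg) y).1 (mem_zpowers y)
      obtain ⟨i, hi⟩ := mem_zpowers_iff.1 hgy
      rw [hCdef, mem_centralizer_singleton_iff]
      have h1 : Commute x (g⁻¹ * y * g) :=
        hi ▸ (commute_of_mem_centralizer hxC).zpow_right i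
      calc g * x * g⁻¹ * y = g * (x * (g⁻¹ * y * g)) * g⁻¹ := by group
        _ = g * ((g⁻¹ * y * g) * x) * g⁻¹ := by rw [h1.eq]
        _ = y * (g * x * g⁻¹) := by group
    rw [hCy] at hgC
    refine mem_zpowers_of_pow_eq_one hqy hq hy (by norm_num) hgC ?_
    obtain ⟨i, rfl⟩ := mem_zpowers_iff.1 hx
    rw [conj_pow, ← zpow_natCast, zpow_comm, zpow_natCast, ← hq, pow_orderOf_eq_one, one_zpow,
      mul_one, mul_inv_cancel]
  obtain ⟨t', ht'⟩ := exists_prime_orderOf_dvd_card' (G := N) 2 (by rw [hN]; norm_num)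
  set t : G := (t' : G) with htdef
  have ht : orderOf t = 2 := (Subgroup.orderOf_coe t').trans ht'
  have hNtop : N ≠ ⊤ := fun e => by rw [e, card_top, h.card] at hN; omega
  have hidx : N.index = 36 := by
    have := N.card_mul_index
    rw [hN, h.card] at this
    omega
  obtain ⟨j, hj0, hj⟩ := four_dvd_moved h.not_comm N hNtop ht
  -- the base coset is the only one fixed by `y` or by `q`
  set x₀ : G ⧸ N := ((1 : G) : G ⧸ N) with hx₀
  have hbase : ∀ g ∈ N, g • x₀ = x₀ := fun g hg => by
    rw [hx₀, MulAction.Quotient.smul_mk, QuotientGroup.eq]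
    simpa using N.inv_mem hg
  have hyN : y ∈ N := le_normalizer (mem_zpowers y)
  have hqN : q ∈ N := hNM ▸ le_normalizer (mem_zpowers q)
  have hone : ∀ (g : G), Nat.card (MulAction.fixedBy (G ⧸ N) g) ≤ 1 → g ∈ N →
      ∀ x : G ⧸ N, g • x = x → x = x₀ := fun g hg hgN x hx => by
    have := (Finite.card_le_one_iff_subsingleton.1 hg)
    exact congrArg Subtype.val (this.elim ⟨x, hx⟩ ⟨x₀, hbase g hgN⟩)
  have hfy := hone y (card_fixedBy_le_one P hP.symm (by rw [hP])) hyN
  obtain ⟨Q, hQ⟩ := exists_sylow_eq_zpowers hq h.card_sylow_five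
  have hfq := hone q (card_fixedBy_le_one Q hQ.symm (by rw [hQ, hNM])) hqN
  have hcN : c ∈ N := mul_mem hqN hyN
  -- the cyclic group of order thirty-five is regular on the other cosets
  have hreg : ∀ x : G ⧸ N, x ≠ x₀ → ∀ d ∈ zpowers c, d • x = x → d = 1 := by
    intro x hx d hd hdx
    by_contra hd1
    have hdo : orderOf d ∣ 35 := hco ▸ orderOf_dvd_of_mem_zpowers hd
    have hdn : orderOf d ≠ 1 := fun e => hd1 (orderOf_eq_one_iff.1 e)
    obtain ⟨r, hr, hrd⟩ := Nat.exists_prime_and_dvd hdn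
    set e := d ^ (orderOf d / r) with hedef
    have heo : orderOf e = r := orderOf_pow_orderOf_div (orderOf_pos d).ne' hrd
    have hec : e ∈ zpowers c := pow_mem hd _
    have hex : e ∈ MulAction.stabilizer G x :=
      pow_mem (show d ∈ MulAction.stabilizer G x from hdx) _
    have hr35 : r ∣ 5 * 7 := hrd.trans hdo
    rcases (Nat.Prime.dvd_mul hr).1 hr35 with h5 | h7
    · obtain rfl := (Nat.prime_dvd_prime_iff_eq hr (by norm_num)).1 h5
      have hm := mem_zpowers_of_pow_eq_one hqy hq hy (by norm_num) hec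
        (by rw [← heo, pow_orderOf_eq_one])
      have he : zpowers e = zpowers q := eq_of_le_of_card_ge (zpowers_le.2 hm)
        (by rw [Nat.card_zpowers, Nat.card_zpowers, heo, hq])
      exact hx (hfq x ((zpowers_le.2 hex : zpowers e ≤ MulAction.stabilizer G x)
        (he ▸ mem_zpowers q)))
    · obtain rfl := (Nat.prime_dvd_prime_iff_eq hr (by norm_num)).1 h7
      rw [hc, hqy.eq] at hec
      have hm := mem_zpowers_of_pow_eq_one hqy.symm hy hq (by norm_num) hec
        (by rw [← heo, pow_orderOf_eq_one])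
      have he : zpowers e = zpowers y := eq_of_le_of_card_ge (zpowers_le.2 hm)
        (by rw [Nat.card_zpowers, Nat.card_zpowers, heo, hy])
      exact hx (hfy x ((zpowers_le.2 hex : zpowers e ≤ MulAction.stabilizer G x)
        (he ▸ mem_zpowers y)))
  have hnct : ¬ Commute t y := fun e => by
    have := C.orderOf_dvd_natCard (mem_centralizer_singleton_iff.2 e.eq)
    rw [ht, hC] at this
    norm_num at this
  have hnctq : ¬ Commute t q := fun e => by
    have hC' := (centralizer ({q} : Set G)).orderOf_dvd_natCard (mem_centralizer_singleton_iff.2 e.eq)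
    have hne' := h.prime_card_ne hq (by rw [h.card]; norm_num) h.card_sylow_five
    rw [← hMdef, hM70] at hne'
    have hdv' := hM70 ▸ card_dvd_of_le (centralizer_le_normalizer_zpowers q)
    have h7 := hy ▸ (centralizer ({q} : Set G)).orderOf_dvd_natCard
      (mem_centralizer_singleton_iff.2 hqy.symm.eq)
    have h5 := (h.five_prelim hq).2
    rw [ht] at hC'
    obtain ⟨d, hd⟩ : ∃ d, Nat.card (centralizer ({q} : Set G)) = d := ⟨_, rfl⟩
    rw [hd] at hC' hne' hdv' h7 h5
    have key : ∀ d ∈ Nat.divisors 70, 2 ∣ d → 5 ∣ d → 7 ∣ d → d = 70 := by decide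
    exact hne' (key d (Nat.mem_divisors.2 ⟨hdv', by norm_num⟩) hC' h5 h7).symm
  have hty := conj_eq_inv_of_prime hy ht ((mem_normalizer_iff.1 t'.2 y).1 (mem_zpowers y)) hnct
  have htq := conj_eq_inv_of_prime hq ht
    ((mem_normalizer_iff.1 (hNM ▸ t'.2 : t ∈ M) q).1 (mem_zpowers q)) hnctq
  have htc : t * c * t⁻¹ = c⁻¹ := by
    rw [hc, show t * (q * y) * t⁻¹ = (t * q * t⁻¹) * (t * y * t⁻¹) by group, hty, htq, mul_inv_rev,
      hqy.inv_inv.eq]
  -- so `t` fixes at most two cosets
  have htwo : ∀ x x' : G ⧸ N, x ≠ x₀ → x' ≠ x₀ → t • x = x → t • x' = x' → x = x' := by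
    intro x x' hx hx' htx htx'
    have hinj : Function.Injective (fun d : zpowers c => (d : G) • x) := by
      intro a b hab
      have h1 := hreg x hx ((b : G)⁻¹ * a) (mul_mem (inv_mem b.2) a.2)
        (by rw [mul_smul]; simp only at hab; rw [hab, inv_smul_smul])
      exact Subtype.ext (inv_mul_eq_one.1 h1).symm
    have hne0 : ∀ d : zpowers c, (d : G) • x ≠ x₀ := fun d e => hx (by
      rw [← inv_smul_smul (d : G) x, e, hbase _ (inv_mem ((zpowers_le.2 hcN) d.2))])
    have hsurj : ∃ d : zpowers c, (d : G) • x = x' := by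
      let F : zpowers c → {z : G ⧸ N // z ≠ x₀} := fun d => ⟨(d : G) • x, hne0 d⟩
      have hF : Function.Injective F := fun a b hab => hinj (congrArg Subtype.val hab)
      have hcard : Nat.card {z : G ⧸ N // z ≠ x₀} ≤ Nat.card (zpowers c) := by
        rw [Nat.card_zpowers, hco]
        classical
        have := Fintype.ofFinite (G ⧸ N)
        rw [Nat.card_eq_fintype_card, Fintype.card_subtype_compl, Fintype.card_subtype_eq,
          ← Nat.card_eq_fintype_card, ← index_eq_card, hidx]
      obtain ⟨d, hd⟩ := (hF.bijective_of_nat_card_le hcard).2 ⟨x', hx'⟩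
      exact ⟨d, congrArg Subtype.val hd⟩
    obtain ⟨⟨d, hd⟩, hdx⟩ := hsurj
    have htd : t * d * t⁻¹ = d⁻¹ := by
      obtain ⟨i, rfl⟩ := mem_zpowers_iff.1 hd
      rw [← conj_zpow, htc, inv_zpow]
    have h1 : d⁻¹ • x = d • x := by
      conv_rhs => rw [hdx, ← htx', ← hdx]
      rw [← htd, mul_smul, mul_smul]
      conv_lhs => rw [show t⁻¹ • x = x from inv_smul_eq_iff.2 htx.symm]
    have h2 : d * d = 1 := hreg x hx _ (mul_mem hd hd) (by
      rw [mul_smul, ← h1, smul_inv_smul])
    have h3 : d = 1 := by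
      have h4 : orderOf d ∣ 2 := orderOf_dvd_of_pow_eq_one (by rw [sq, h2])
      have h5 : orderOf d ∣ 35 := hco ▸ orderOf_dvd_of_mem_zpowers hd
      exact orderOf_eq_one_iff.1 (Nat.eq_one_of_dvd_coprimes (by norm_num) h4 h5)
    rw [← hdx]
    show x = d • x
    rw [h3, one_smul]
  have hle : Nat.card (MulAction.fixedBy (G ⧸ N) t) ≤ 2 := by
    classical
    have hinj : Function.Injective
        (fun z : MulAction.fixedBy (G ⧸ N) t => decide ((z : G ⧸ N) = x₀)) := by
      intro a b hab
      by_cases ha : (a : G ⧸ N) = x₀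
      · exact Subtype.ext (by simp [ha] at hab; exact ha.trans hab.symm)
      · exact Subtype.ext (htwo _ _ ha (by simpa [ha] using hab) a.2 b.2)
    simpa using Nat.card_le_card_of_injective _ hinj
  have hpos : 1 ≤ Nat.card (MulAction.fixedBy (G ⧸ N) t) := by
    have : Nonempty (MulAction.fixedBy (G ⧸ N) t) := ⟨⟨x₀, hbase t t'.2⟩⟩
    exact Nat.card_pos
  omega

/-- An element of order seven is self-centralising and its normaliser has order twenty-one. -/
theorem Hyp.seven (h : Hyp G) {y : G} (hy : orderOf y = 7) :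
    Nat.card (normalizer ((zpowers y : Subgroup G) : Set G)) = 21 ∧
    Nat.card (centralizer ({y} : Set G)) = 7 := by
  have : Fact (Nat.Prime 7) := ⟨by norm_num⟩
  obtain ⟨P, hP⟩ := exists_sylow_eq_zpowers hy h.card_sylow_seven
  obtain ⟨h1, h2, h3, h4⟩ := sylow_data (p := 7) (a := 1) (m := 360)
    (by rw [h.card]; norm_num) one_ne_zero (by norm_num) h.not_comm
  have hmul := card_sylow_mul_card_normalizer P
  have hne := h.prime_card_ne hy (by rw [h.card]; norm_num) h.card_sylow_seven
  have hdv := (prime_normalizer_dvd hy).1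
  have hCN := card_dvd_of_le (centralizer_le_normalizer_zpowers y)
  rw [hP, h.card] at hmul
  set N := normalizer ((zpowers y : Subgroup G) : Set G) with hNdef
  have hidx : N.index * Nat.card N = 2520 := by rw [mul_comm, N.card_mul_index, h.card]
  obtain ⟨n, hn⟩ : ∃ n, Nat.card (Sylow 7 G) = n := ⟨_, rfl⟩
  rw [hn, h.card] at h4
  rw [hn] at h1 h2 h3 hmul
  obtain ⟨c, hc⟩ : ∃ c, Nat.card (centralizer ({y} : Set G)) = c := ⟨_, rfl⟩
  have hy7 : 7 ∣ c := hc ▸ hy ▸
    (centralizer ({y} : Set G)).orderOf_dvd_natCard (mem_centralizer_singleton_iff.2 rfl)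
  rw [hc] at hne hdv hCN ⊢
  have key : ∀ n ∈ Nat.divisors 360, n % 7 = 1 → n ≠ 1 → n = 8 ∨ n = 15 ∨ n = 36 ∨ n = 120 := by
    decide
  have hsmall : ∀ m, N.index = m → (m = 8 ∨ m = 15) → False := by
    intro m hm hm'
    have hNtop : N ≠ ⊤ := fun e => by rw [e, index_top] at hm; omega
    obtain ⟨k, hk, hkp, -, hfix, hd, hd2⟩ := centralizer_bound h.not_comm N hNtop hy
    have hle := card_fixedBy_le_one P hP.symm (H := N) (by rw [hP])
    rw [hfix] at hle
    rw [hm] at hkp hle hd hd2 hidx
    rw [hc] at hd hd2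
    rcases hm' with rfl | rfl
    · obtain rfl : k = 1 := by omega
      have : c ∣ 7 := by simpa [Nat.factorial] using hd
      have hN315 : Nat.card N = 315 := by omega
      rw [hN315] at hdv
      have := Nat.le_of_dvd (by norm_num) this
      have : c ≠ 0 := fun e => by rw [e] at hc; exact Nat.card_pos.ne' hc
      have := Nat.le_of_dvd (by omega) hdv
      omega
    · obtain rfl : k = 2 := by omega
      have h2 : 2 * c ∣ 2 * 49 := by simpa [Nat.factorial] using hd2 (Or.inr le_rfl)
      have h49 : c ∣ 49 := Nat.dvd_of_mul_dvd_mul_left two_pos h2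
      have hN168 : Nat.card N = 168 := by omega
      rw [hN168] at hdv hCN
      have key' : ∀ c ∈ Nat.divisors 49, c ∣ 168 → 168 ∣ (7 - 1) * c → False := by decide
      exact key' c (Nat.mem_divisors.2 ⟨h49, by norm_num⟩) hCN hdv
  rcases key n (Nat.mem_divisors.2 ⟨h1, by norm_num⟩) h2 h3 with rfl | rfl | rfl | rfl
  · exact (hsmall 8 (by nlinarith) (Or.inl rfl)).elim
  · exact (hsmall 15 (by nlinarith) (Or.inr rfl)).elim
  · have hN70 : Nat.card N = 70 := by nlinarith
    exact (h.seven_not_thirtysix hy hN70).elim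
  · have hN : Nat.card N = 21 := by omega
    rw [hN] at hne hdv hCN
    refine ⟨hN, ?_⟩
    have key' : ∀ c ∈ Nat.divisors 21, 7 ∣ c → c = 21 ∨ c = 7 := by decide
    exact (key' c (Nat.mem_divisors.2 ⟨hCN, by norm_num⟩) hy7).resolve_left fun e => hne e.symm

theorem Hyp.seven_not_dvd (h : Hyp G) {x : G} (hx : x ≠ 1) (hx7 : ¬ 7 ∣ orderOf x) :
    ¬ 7 ∣ Nat.card (centralizer ({x} : Set G)) := by
  intro hd
  have : Fact (Nat.Prime 7) := ⟨by norm_num⟩
  obtain ⟨y, hy⟩ := exists_prime_orderOf_dvd_card' (G := centralizer ({x} : Set G)) 7 hd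
  rw [← orderOf_coe] at hy
  have := (centralizer ({(y : G)} : Set G)).orderOf_dvd_natCard
    (mem_centralizer_singleton_iff.2 (commute_of_mem_centralizer y.2).symm.eq)
  rw [(h.seven hy).2] at this
  rcases (Nat.dvd_prime (by norm_num : Nat.Prime 7)).1 this with e | e
  · exact hx (orderOf_eq_one_iff.1 e)
  · exact hx7 (e ▸ dvd_rfl)

theorem Hyp.five_normalizer (h : Hyp G) {q : G} (hq : orderOf q = 5) :
    Nat.card (normalizer ((zpowers q : Subgroup G) : Set G)) = 120 ∨
      Nat.card (normalizer ((zpowers q : Subgroup G) : Set G)) = 20 := by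
  rcases (h.five_prelim hq).1 with e | e | e
  · exact Or.inl e
  · exfalso
    set M := normalizer ((zpowers q : Subgroup G) : Set G) with hM
    have : Fact (Nat.Prime 7) := ⟨by norm_num⟩
    obtain ⟨y', hy'⟩ := exists_prime_orderOf_dvd_card' (G := M) 7 (by rw [e]; norm_num)
    rw [← orderOf_coe] at hy'
    have hyc := mem_centralizer_of_order (H := zpowers q) y'.2 hy' (by
      rw [Nat.card_zpowers, hq]
      intro d hd hmod
      rcases (Nat.dvd_prime (by norm_num : Nat.Prime 5)).1 hd with rfl | rfl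
      · exact absurd hmod (by decide)
      · rfl)
    rw [centralizer_zpowers] at hyc
    refine h.seven_not_dvd (x := q) (fun e => by rw [e, orderOf_one] at hq; omega)
      (by rw [hq]; norm_num) ?_
    exact hy' ▸ Subgroup.orderOf_dvd_natCard _ hyc
  · exact Or.inr e

theorem Hyp.nine_not_dvd_five (h : Hyp G) {q : G} (hq : orderOf q = 5) :
    ¬ 9 ∣ Nat.card (normalizer ((zpowers q : Subgroup G) : Set G)) := by
  rcases h.five_normalizer hq with e | e <;> rw [e] <;> norm_num

section Three

variable [Fact (Nat.Prime 3)]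

theorem Hyp.three_comm (h : Hyp G) (S : Sylow 3 G) : IsMulCommutative (S : Subgroup G) :=
  IsPGroup.isMulCommutative_of_card_eq_prime_sq (p := 3) (by rw [h.card_sylow_three S]; norm_num)

theorem Hyp.sylow_le_centralizer (h : Hyp G) (S : Sylow 3 G) {x : G} (hx : x ∈ (S : Subgroup G)) :
    (S : Subgroup G) ≤ centralizer ({x} : Set G) := fun a ha => by
  have := h.three_comm S
  exact mem_centralizer_singleton_iff.2 (congrArg Subtype.val
    (mul_comm' (⟨a, ha⟩ : (S : Subgroup G)) ⟨x, hx⟩))

theorem Hyp.three_normalizer (h : Hyp G) (S : Sylow 3 G) :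
    Nat.card (normalizer ((S : Subgroup G) : Set G)) = 36 := by
  obtain ⟨h1, h2, h3, h4⟩ := sylow_data (p := 3) (a := 2) (m := 280)
    (by rw [h.card]; norm_num) two_ne_zero (by norm_num) h.not_comm
  have hmul := card_sylow_mul_card_normalizer S
  have hS := h.card_sylow_three S
  set N := normalizer ((S : Subgroup G) : Set G) with hN
  obtain ⟨n, hn⟩ : ∃ n, Nat.card (Sylow 3 G) = n := ⟨_, rfl⟩
  rw [h.card] at hmul
  rw [hn, h.card] at h4
  rw [hn] at h1 h2 h3 hmul
  -- an element of order seven or five in the normaliser centralises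
  have hcent : ∀ r : ℕ, r.Prime → r ∣ Nat.card N → (∀ d ∈ Nat.divisors 9, d % r = 9 % r → d = 9) →
      ∃ g : G, orderOf g = r ∧ 9 ∣ Nat.card (centralizer ({g} : Set G)) := by
    intro r hr hd hdv
    have : Fact r.Prime := ⟨hr⟩
    obtain ⟨g, hg⟩ := exists_prime_orderOf_dvd_card' r hd
    rw [← orderOf_coe] at hg
    have hgc := mem_centralizer_of_order g.2 hg (by
      rw [hS]; exact fun d hd hmod => hdv d (Nat.mem_divisors.2 ⟨hd, by norm_num⟩) hmod)
    refine ⟨g, hg, ?_⟩
    rw [← hS]
    exact card_dvd_of_le fun a ha => mem_centralizer_singleton_iff.2 (mem_centralizer_iff.1 hgc a ha)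
  have no7 : 7 ∣ Nat.card N → False := fun hd => by
    obtain ⟨g, hg, h9⟩ := hcent 7 (by norm_num) hd (by decide)
    rw [(h.seven hg).2] at h9
    norm_num at h9
  have no5 : 5 ∣ Nat.card N → False := fun hd => by
    obtain ⟨g, hg, h9⟩ := hcent 5 (by norm_num) hd (by decide)
    exact h.nine_not_dvd_five hg (h9.trans (card_dvd_of_le (centralizer_le_normalizer_zpowers g)))
  have key : ∀ n ∈ Nat.divisors 280, n % 3 = 1 → n ≠ 1 →
      n = 4 ∨ n = 7 ∨ n = 10 ∨ n = 28 ∨ n = 40 ∨ n = 70 ∨ n = 280 := by decide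
  rcases key n (Nat.mem_divisors.2 ⟨h1, by norm_num⟩) h2 h3 with
    rfl | rfl | rfl | rfl | rfl | rfl | rfl
  · norm_num [Nat.factorial] at h4
  · exact (no5 (by omega)).elim
  · exact (no7 (by omega)).elim
  · exact (no5 (by omega)).elim
  · exact (no7 (by omega)).elim
  · omega
  · exfalso
    have hNS : N = (S : Subgroup G) :=
      (eq_of_le_of_card_ge le_normalizer (by rw [hS]; show Nat.card N ≤ 9; omega)).symm
    refine not_normalizer_le_centralizer h.not_comm (by rw [h.card]; norm_num) S ?_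
    rw [← hN, hNS]
    have := h.three_comm S
    exact le_centralizer _

/-- Transfer: nothing nontrivial in a Sylow three-subgroup is central in its normaliser. -/
theorem Hyp.eq_one_of_central (h : Hyp G) (S : Sylow 3 G) {x : G} (hx : x ∈ (S : Subgroup G))
    (hc : normalizer ((S : Subgroup G) : Set G) ≤ centralizer ({x} : Set G)) : x = 1 := by
  have := h.three_comm S
  by_contra hx1
  have hS := h.card_sylow_three S
  have hkey : ∀ (k : ℕ) (g₀ : G), g₀⁻¹ * x ^ k * g₀ ∈ (S : Subgroup G) →
      g₀⁻¹ * x ^ k * g₀ = x ^ k := by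
    intro k g₀ hk
    obtain ⟨n, hnN, hn'⟩ := S.conj_eq_normalizer_conj_of_mem (x ^ k) g₀ (pow_mem hx k) hk
    rw [hn', mul_assoc, ((commute_of_mem_centralizer (hc hnN)).symm.pow_left k).eq,
      inv_mul_cancel_left]
  let : CommGroup (S : Subgroup G) := IsPGroup.commGroupOfCardEqPrimeSq (p := 3) (by rw [hS]; norm_num)
  let τ : G →* (S : Subgroup G) := MonoidHom.transfer (MonoidHom.id (S : Subgroup G))
  have hτ := MonoidHom.transfer_eq_pow (MonoidHom.id (S : Subgroup G)) x hkey
  have hindex : (S : Subgroup G).index = 280 := by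
    have := (S : Subgroup G).card_mul_index
    rw [hS, h.card] at this
    omega
  have hτne : τ x ≠ 1 := by
    intro e
    have e' : x ^ (S : Subgroup G).index = 1 := by
      simpa using congrArg Subtype.val (hτ.symm.trans e)
    rw [hindex] at e'
    have hd' := Nat.dvd_gcd ((S : Subgroup G).orderOf_dvd_natCard hx) (orderOf_dvd_of_pow_eq_one e')
    rw [hS] at hd'
    exact hx1 (orderOf_eq_one_iff.1 (Nat.dvd_one.1 hd'))
  rcases (Subgroup.Normal.eq_bot_or_eq_top (H := τ.ker) inferInstance) with e | e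
  · exact h.not_comm
      ⟨⟨fun a b => (MonoidHom.ker_eq_bot_iff τ).1 e (by rw [map_mul, map_mul, mul_comm])⟩⟩
  · exact hτne (by rw [← MonoidHom.mem_ker, e]; trivial)

end Three

end Cfsg.Agent.SmallOrder.Order2520
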