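import Cfsg.Agent.SmallOrder.Order2520.Exists

/-!
# Order 2520: an element of order three with centraliser of order thirty-six, and the involutions
-/

set_option autoImplicit false

namespace Cfsg.Agent.SmallOrder.Order2520

open Subgroup

variable {G : Type*} [Group G]

/-- The four-group of the centraliser of `y`, as a predicate. -/
def InV (y g : G) : Prop := Commute g y ∧ g * g = 1

theorem InV.one (y : G) : InV y 1 := ⟨Commute.one_left y, one_mul 1⟩

theorem InV.inv_eq {y g : G} (h : InV y g) : g⁻¹ = g := inv_eq_of_mul_eq_one_right h.2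

theorem InV.conj {y g : G} (h : InV y g) (c : G) : InV (c * y * c⁻¹) (c * g * c⁻¹) := by
  refine ⟨?_, by rw [conj_mul, h.2, mul_one, mul_inv_cancel]⟩
  show c * g * c⁻¹ * (c * y * c⁻¹) = c * y * c⁻¹ * (c * g * c⁻¹)
  rw [conj_mul, conj_mul, h.1.eq]

theorem InV.conj_of_normalizes {y g c : G} (h : InV y g)
    (hc : c * y * c⁻¹ = y ∨ c * y * c⁻¹ = y⁻¹) : InV y (c * g * c⁻¹) := by
  have := h.conj c
  rcases hc with e | e <;> rw [e] at this
  · exact this
  · exact ⟨by simpa using this.1.inv_right, this.2⟩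

variable [Finite G] [IsSimpleGroup G] [Fact (Nat.Prime 3)]

/-- An element of order three with centraliser of order thirty-six. -/
structure Three (y : G) : Prop where
  ord : orderOf y = 3
  card : Nat.card (centralizer ({y} : Set G)) = 36

omit [Finite G] [IsSimpleGroup G] [Fact (Nat.Prime 3)] in
theorem Three.conj {y : G} (hy : Three y) (c : G) : Three (c * y * c⁻¹) := by
  refine ⟨(orderOf_injective (MulAut.conj c).toMonoidHom (MulAut.conj c).injective y).trans hy.ord, ?_⟩
  rw [← hy.card]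
  refine (Nat.card_congr ((MulAut.conj c).toEquiv.subtypeEquiv fun g => ?_)).symm
  show g ∈ centralizer ({y} : Set G) ↔ c * g * c⁻¹ ∈ centralizer ({c * y * c⁻¹} : Set G)
  rw [mem_centralizer_singleton_iff, mem_centralizer_singleton_iff, conj_mul, conj_mul,
    mul_left_inj, mul_right_inj]

theorem Hyp.fpf (h : Hyp G) {y g v : G} (hy : Three y) (hg : Commute g y) (hg3 : g ^ 3 = 1)
    (hgy : g ∉ zpowers y) (hv : InV y v) (hgv : Commute g v) : v = 1 := by
  by_contra hv1
  have hgn : zpowers g ≤ normalizer ((zpowers y : Subgroup G) : Set G) :=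
    zpowers_le.2 (centralizer_le_normalizer_zpowers y (mem_centralizer_singleton_iff.2 hg.eq))
  have hp : IsPGroup 3 (zpowers y) := IsPGroup.of_card (n := 1) (by rw [Nat.card_zpowers, hy.ord, pow_one])
  have hpg : IsPGroup 3 (zpowers g) := by
    obtain ⟨i, -, hi⟩ := (Nat.dvd_prime_pow Nat.prime_three).1
      (show orderOf g ∣ 3 ^ 1 by rw [pow_one]; exact orderOf_dvd_of_pow_eq_one hg3)
    exact IsPGroup.of_card (n := i) (by rw [Nat.card_zpowers, hi])
  set T := zpowers y ⊔ zpowers g with hT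
  obtain ⟨P, hP⟩ := (hp.to_sup_of_normal_left' hpg hgn).exists_le_sylow
  have hPeq : T = (P : Subgroup G) := by
    refine eq_of_le_of_card_ge hP ?_
    rw [h.card_sylow_three P]
    have hlt : 3 < Nat.card T := by
      by_contra! hle
      have e := eq_of_le_of_card_ge (le_sup_left : zpowers y ≤ T)
        (by rw [Nat.card_zpowers, hy.ord]; exact hle)
      exact hgy (e ▸ mem_sup_right (mem_zpowers g))
    have hd : Nat.card T ∣ 9 := h.card_sylow_three P ▸ card_dvd_of_le hP
    have key : ∀ d ∈ Nat.divisors 9, 3 < d → 9 ≤ d := by decide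
    exact key _ (Nat.mem_divisors.2 ⟨hd, by norm_num⟩) hlt
  have hTv : T ≤ centralizer ({v} : Set G) := sup_le
    (zpowers_le.2 (mem_centralizer_singleton_iff.2 hv.1.symm.eq))
    (zpowers_le.2 (mem_centralizer_singleton_iff.2 hgv.eq))
  have hvC : v ∈ centralizer ((P : Subgroup G) : Set G) := mem_centralizer_iff.2 fun p hp' =>
    mem_centralizer_singleton_iff.1 (hTv (hPeq ▸ hp'))
  rw [h.centralizer_sylow_eq P] at hvC
  have h9 := (P : Subgroup G).orderOf_dvd_natCard hvC
  rw [h.card_sylow_three P] at h9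
  exact hv1 (orderOf_eq_one_iff.1 (Nat.eq_one_of_dvd_coprimes (by norm_num)
    (orderOf_dvd_of_pow_eq_one (show v ^ 2 = 1 by rw [sq]; exact hv.2)) h9))

theorem Hyp.four (h : Hyp G) {y : G} (hy : Three y) :
    ∃ V : Subgroup G, Nat.card V = 4 ∧ ∀ g, g ∈ V ↔ InV y g := by
  classical
  have h2 : Fact (Nat.Prime 2) := ⟨Nat.prime_two⟩
  set C := centralizer ({y} : Set G) with hC
  have hyC : y ∈ C := mem_centralizer_singleton_iff.2 rfl
  set D := zpowers (⟨y, hyC⟩ : C) with hD
  have hDc : Nat.card D = 3 := by rw [hD, Nat.card_zpowers, Subgroup.orderOf_mk, hy.ord]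
  have hDz : D ≤ center C := zpowers_le.2 (mem_center_iff.2 fun g =>
    Subtype.ext (mem_centralizer_singleton_iff.1 g.2))
  obtain ⟨S, hyS⟩ := (IsPGroup.of_card (n := 1) (by rw [Nat.card_zpowers, hy.ord, pow_one]) :
    IsPGroup 3 (zpowers y)).exists_le_sylow
  have hyS' := hyS (mem_zpowers y)
  have hy1 : y ≠ 1 := fun e => by have := hy.ord; rw [e, orderOf_one] at this; omega
  have hSC : (S : Subgroup G) ≤ C := h.sylow_le_centralizer S hyS'
  have hn1 : 1 < Nat.card (Sylow 3 C) := by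
    let SC : Sylow 3 C := S.subtype hSC
    have hnorm : normalizer ((SC : Subgroup C) : Set C) ≤ (SC : Subgroup C) := by
      show normalizer (((S : Subgroup G).subgroupOf C : Subgroup C) : Set C) ≤ (S : Subgroup G).subgroupOf C
      rw [← subgroupOf_normalizer_eq hSC]
      intro g hg
      exact mem_subgroupOf.2 ((h.centralizer_nine_or S hyS' hy1).2 _ (mem_subgroupOf.1 hg)
        (commute_of_mem_centralizer g.2))
    have hmul := card_sylow_mul_card_normalizer SC
    have hSCc : Nat.card (SC : Subgroup C) = 9 := by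
      show Nat.card ((S : Subgroup G).subgroupOf C) = 9
      rw [Nat.card_congr (subgroupOfEquivOfLe hSC).toEquiv, h.card_sylow_three S]
    have hle := Nat.le_of_dvd Nat.card_pos (card_dvd_of_le hnorm)
    rw [hy.card] at hmul
    rw [hSCc] at hle
    nlinarith
  obtain ⟨R, hRn, hR⟩ := exists_normal_two_subgroup hDc hDz (Or.inl hy.card) hn1
  obtain ⟨hR4, hRnc⟩ : Nat.card R = 4 ∧ ∀ P : Sylow 3 C, ¬ (P : Subgroup C) ≤ centralizer (R : Set C) := by
    rcases hR with e | e
    · have := R.card_subgroup_dvd_card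
      rw [e, hy.card] at this
      norm_num at this
    · exact e
  -- every element of two-power order lies in `R`
  have hall : ∀ g : C, g ^ 4 = 1 → g ∈ R := by
    intro g hg
    obtain ⟨i, -, hi⟩ := (Nat.dvd_prime_pow Nat.prime_two).1
      (show orderOf g ∣ 2 ^ 2 from orderOf_dvd_of_pow_eq_one hg)
    have hp := (IsPGroup.of_card (n := 2) (by rw [hR4]; norm_num) : IsPGroup 2 R).to_sup_of_normal_left
      (IsPGroup.of_card (n := i) (by rw [Nat.card_zpowers, hi]) : IsPGroup 2 (zpowers g))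
    obtain ⟨j, hj⟩ := hp.exists_card_eq
    have hd := (R ⊔ zpowers g).card_subgroup_dvd_card
    rw [hj, hy.card] at hd
    have hj2 : j ≤ 2 := by
      by_contra! hlt
      have := (pow_dvd_pow 2 (show 3 ≤ j by omega)).trans hd
      norm_num at this
    have e := eq_of_le_of_card_ge (le_sup_left : R ≤ R ⊔ zpowers g) (by
      rw [hj, hR4]; exact (Nat.pow_le_pow_right two_pos hj2).trans (by norm_num))
    exact e ▸ mem_sup_right (mem_zpowers g)
  -- `R` has exponent two
  have hsq : ∀ r ∈ R, r * r = 1 := by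
    by_contra! hcon
    obtain ⟨r, hr, hr2⟩ := hcon
    have hro : orderOf r = 4 := by
      have hd := R.orderOf_dvd_natCard hr
      rw [hR4] at hd
      have key : ∀ d ∈ Nat.divisors 4, d = 4 ∨ d ∣ 2 := by decide
      refine (key _ (Nat.mem_divisors.2 ⟨hd, by norm_num⟩)).resolve_right fun e => hr2 ?_
      rw [← sq]; exact orderOf_dvd_iff_pow_eq_one.1 e
    have he : zpowers r = R := eq_of_le_of_card_ge (zpowers_le.2 hr) (by rw [Nat.card_zpowers, hro, hR4])
    obtain ⟨P⟩ : Nonempty (Sylow 3 C) := Sylow.nonempty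
    refine hRnc P fun p hp => ?_
    obtain ⟨k, hk⟩ := P.isPGroup' ⟨p, hp⟩
    have hpk : p ^ 3 ^ k = 1 := congrArg Subtype.val hk
    have hconj : p * r * p⁻¹ ∈ zpowers r := he.symm ▸ hRn.conj_mem r hr p
    have hpp : Commute (p * p) r := by
      obtain ⟨i, hi⟩ := mem_zpowers_iff.1 hconj
      have hio : orderOf (r ^ i) = 4 := by
        rw [hi]
        exact (orderOf_injective (MulAut.conj p).toMonoidHom (MulAut.conj p).injective r).trans hro
      have hodd : i % 4 = 1 ∨ i % 4 = 3 := by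
        rcases (show i % 2 = 1 ∨ i % 2 = 0 by omega) with e | e
        · omega
        · exfalso
          obtain ⟨k, rfl⟩ : (2 : ℤ) ∣ i := Int.dvd_of_emod_eq_zero e
          have : (r ^ (2 * k)) ^ 2 = 1 := by
            rw [← zpow_natCast, ← zpow_mul, show 2 * k * (2 : ℕ) = (4 : ℕ) * k by push_cast; ring, zpow_mul,
              zpow_natCast, ← hro, pow_orderOf_eq_one, one_zpow]
          have := Nat.le_of_dvd two_pos (orderOf_dvd_of_pow_eq_one this)
          omega
      refine mul_inv_eq_iff_eq_mul.1 ?_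
      rw [show p * p * r * (p * p)⁻¹ = p * (p * r * p⁻¹) * p⁻¹ by group, ← hi, ← conj_zpow, ← hi,
        ← zpow_mul, ← zpow_mod_orderOf, hro]
      have : i * i % (4 : ℕ) = 1 := by
        rcases hodd with e | e <;> rw [show ((4 : ℕ) : ℤ) = 4 from rfl, Int.mul_emod, e] <;> rfl
      rw [this, zpow_one]
    have hodd3 : Odd (3 ^ k) := (by decide : Odd 3).pow
    obtain ⟨j, hj⟩ := hodd3
    have hp' : p = (p * p) ^ (j + 1) := by
      rw [← sq, ← pow_mul, show 2 * (j + 1) = 3 ^ k + 1 by omega, pow_succ, hpk, one_mul]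
    rw [hp', ← he, zpowers_eq_closure, centralizer_closure, mem_centralizer_singleton_iff]
    exact (hpp.pow_left (j + 1)).eq
  refine ⟨R.map C.subtype, by
    rw [← Nat.card_congr (R.equivMapOfInjective _ C.subtype_injective).toEquiv, hR4], fun g => ?_⟩
  constructor
  · rintro ⟨r, hr, rfl⟩
    exact ⟨commute_of_mem_centralizer r.2, congrArg Subtype.val (hsq r hr)⟩
  · rintro ⟨hg, hg2⟩
    refine ⟨⟨g, mem_centralizer_singleton_iff.2 hg.eq⟩, hall _ (Subtype.ext ?_), rfl⟩
    show g ^ 4 = 1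
    rw [show (4 : ℕ) = 2 * 2 from rfl, pow_mul, sq g, hg2, one_pow]

theorem Hyp.inV_mul (h : Hyp G) {y g g' : G} (hy : Three y) (hg : InV y g) (hg' : InV y g') :
    InV y (g * g') ∧ Commute g g' := by
  obtain ⟨V, -, hV⟩ := h.four hy
  have hm := (hV _).1 (mul_mem ((hV g).2 hg) ((hV g').2 hg'))
  refine ⟨hm, ?_⟩
  have := hm.inv_eq
  rw [mul_inv_rev, hg.inv_eq, hg'.inv_eq] at this
  exact this.symm

/-- A nontrivial element of the four-group has its orbit as the other elements. -/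
theorem Hyp.inV_cases (h : Hyp G) {y v g : G} (hy : Three y) (hg : Commute g y) (hg3 : g ^ 3 = 1)
    (hgy : g ∉ zpowers y) (hv : InV y v) (hv1 : v ≠ 1) (w : G) (hw : InV y w) :
    (w = 1 ∨ w = v ∨ w = g * v * g⁻¹ ∨ w = g ^ 2 * v * (g ^ 2)⁻¹) ∧
      v * (g * v * g⁻¹) = g ^ 2 * v * (g ^ 2)⁻¹ := by
  classical
  obtain ⟨V, hV4, hV⟩ := h.four hy
  have := Fintype.ofFinite V
  have hcy : ∀ c : G, Commute c y → c * y * c⁻¹ = y := fun c hc => by rw [hc.eq, mul_inv_cancel_right]
  set u := g * v * g⁻¹ with hu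
  set u' := g ^ 2 * v * (g ^ 2)⁻¹ with hu'
  have huV : InV y u := hv.conj_of_normalizes (Or.inl (hcy g hg))
  have hu'V : InV y u' := hv.conj_of_normalizes (Or.inl (hcy _ (hg.pow_left 2)))
  have hu1 : u ≠ 1 := fun e => hv1 (conj_eq_one_iff.1 e)
  have hu'1 : u' ≠ 1 := fun e => hv1 (conj_eq_one_iff.1 e)
  have huv : u ≠ v := fun e => hv1 (h.fpf hy hg hg3 hgy hv (mul_inv_eq_iff_eq_mul.1 e))
  have hu'v : u' ≠ v := fun e => by
    refine hv1 (h.fpf hy (hg.pow_left 2) (by rw [← pow_mul, show 2 * 3 = 3 * 2 from rfl, pow_mul, hg3, one_pow])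
      (fun hm => hgy ?_) hv (mul_inv_eq_iff_eq_mul.1 e))
    have : g = (g ^ 2) ^ 2 := by rw [← pow_mul, show 2 * 2 = 3 + 1 from rfl, pow_succ, hg3, one_mul]
    rw [this]; exact pow_mem hm 2
  have huu' : u ≠ u' := fun e => huv (by
    have e2 : g * v * g⁻¹ = g * (g * v * g⁻¹) * g⁻¹ := e.trans (by rw [hu', sq]; group)
    exact (mul_left_cancel (mul_right_cancel e2)).symm)
  have hsub : ({1, v, u, u'} : Finset G) = (Finset.univ.filter fun x : {x // x ∈ V} => True).image Subtype.val := by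
    refine Finset.eq_of_subset_of_card_le (fun x hx => ?_) ?_
    · simp only [Finset.mem_insert, Finset.mem_singleton] at hx
      refine Finset.mem_image.2 ⟨⟨x, (hV x).2 ?_⟩, by simp, rfl⟩
      rcases hx with rfl | rfl | rfl | rfl
      exacts [InV.one y, hv, huV, hu'V]
    · refine Finset.card_image_le.trans ?_
      rw [Finset.filter_true, Finset.card_univ, ← Nat.card_eq_fintype_card, hV4]
      simp [hv1.symm, hu1.symm, hu'1.symm, huv.symm, hu'v.symm, huu']
  have hmem : ∀ x, InV y x → x = 1 ∨ x = v ∨ x = u ∨ x = u' := fun x hx => by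
    have : x ∈ ({1, v, u, u'} : Finset G) := by
      rw [hsub]; exact Finset.mem_image.2 ⟨⟨x, (hV x).2 hx⟩, by simp, rfl⟩
    simpa using this
  refine ⟨hmem w hw, ?_⟩
  rcases hmem _ (h.inV_mul hy hv huV).1 with e | e | e | e
  · exact absurd ((mul_eq_one_iff_eq_inv.1 e).trans huV.inv_eq).symm huv
  · exact absurd (mul_eq_left.1 e) hu1
  · exact absurd (mul_eq_right.1 e) hv1
  · exact e

theorem Hyp.cube (h : Hyp G) {y v g : G} (hy : Three y) (hg : Commute g y) (hg3 : g ^ 3 = 1)
    (hgy : g ∉ zpowers y) (hv : InV y v) (hv1 : v ≠ 1) : (v * g) ^ 3 = 1 := by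
  have hp := (h.inV_cases hy hg hg3 hgy hv hv1 1 (InV.one y)).2
  have hu' : InV y (g ^ 2 * v * (g ^ 2)⁻¹) := hv.conj_of_normalizes (Or.inl (by
    rw [(hg.pow_left 2).eq, mul_inv_cancel_right]))
  calc (v * g) ^ 3 = v * (g * v * g⁻¹) * (g ^ 2 * v * (g ^ 2)⁻¹) * g ^ 3 := by
        simp only [pow_succ, pow_zero, one_mul]; group
    _ = 1 := by rw [hp, hu'.2, hg3, one_mul]

/-- A Sylow subgroup, an inverter and a second generator, for a given `y`. -/
theorem Hyp.frame (h : Hyp G) {y : G} (hy : Three y) :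
    ∃ (b g : G), b * b = 1 ∧ Commute g y ∧ g ^ 3 = 1 ∧ g ∉ zpowers y ∧
      b * y * b⁻¹ = y⁻¹ ∧ b * g * b⁻¹ = g⁻¹ := by
  obtain ⟨S, hyS⟩ := (IsPGroup.of_card (n := 1) (by rw [Nat.card_zpowers, hy.ord, pow_one]) :
    IsPGroup 3 (zpowers y)).exists_le_sylow
  have hyS' := hyS (mem_zpowers y)
  have hS := h.card_sylow_three S
  obtain ⟨-, b, hbN, hb⟩ := h.exists_inverter S
  obtain ⟨g, hgS, hgy⟩ : ∃ g ∈ (S : Subgroup G), g ∉ zpowers y := by
    by_contra! hcon
    have := Nat.le_of_dvd Nat.card_pos (card_dvd_of_le (show (S : Subgroup G) ≤ zpowers y from hcon))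
    rw [Nat.card_zpowers, hy.ord, hS] at this
    omega
  refine ⟨b, g, ?_, commute_of_mem_centralizer (h.sylow_le_centralizer S hyS' hgS),
    h.exponent_three S hgS, hgy, hb y hyS', hb g hgS⟩
  have hbb : b * b ∈ (S : Subgroup G) := by
    rw [← h.centralizer_sylow_eq S]
    refine mem_centralizer_iff.2 fun s hs => (mul_inv_eq_iff_eq_mul.1 ?_).symm
    rw [show b * b * s * (b * b)⁻¹ = b * (b * s * b⁻¹) * b⁻¹ by group, hb s hs,
      hb _ (inv_mem hs), inv_inv]
  have h1 := hb _ hbb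
  rw [show b * (b * b) * b⁻¹ = b * b by group] at h1
  exact orderOf_eq_one_iff.1 (Nat.eq_one_of_dvd_coprimes (by norm_num)
    (orderOf_dvd_of_pow_eq_one (show (b * b) ^ 2 = 1 by
      rw [sq]; nth_rewrite 1 [h1]; rw [inv_mul_cancel]))
    (hS ▸ (S : Subgroup G).orderOf_dvd_natCard hbb))

theorem Hyp.exists_fixed (h : Hyp G) {y b g : G} (hy : Three y) (hb : b * b = 1)
    (hby : b * y * b⁻¹ = y⁻¹) (hg : Commute g y) (hg3 : g ^ 3 = 1) (hgy : g ∉ zpowers y) :
    ∃ v, InV y v ∧ v ≠ 1 ∧ Commute b v := by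
  obtain ⟨V, hV4, hV⟩ := h.four hy
  obtain ⟨⟨w, hw⟩, hw1⟩ := @exists_ne V (Finite.one_lt_card_iff_nontrivial.1 (by rw [hV4]; norm_num)) 1
  have hwV := (hV w).1 hw
  have hw1' : w ≠ 1 := fun e => hw1 (Subtype.ext e)
  have hbi : b⁻¹ = b := inv_eq_of_mul_eq_one_right hb
  by_cases hc : Commute b w
  · exact ⟨w, hwV, hw1', hc⟩
  have hw' : InV y (b * w * b⁻¹) := hwV.conj_of_normalizes (Or.inr hby)
  obtain ⟨hm, hcomm⟩ := h.inV_mul hy hwV hw'
  refine ⟨w * (b * w * b⁻¹), hm, fun e => hc ?_, ?_⟩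
  · exact mul_inv_eq_iff_eq_mul.1 (((mul_eq_one_iff_eq_inv.1 e).trans hw'.inv_eq).symm)
  · refine mul_inv_eq_iff_eq_mul.1 ?_
    rw [show b * (w * (b * w * b⁻¹)) * b⁻¹ = (b * w * b⁻¹) * ((b * b) * w * (b * b)⁻¹) by group, hb,
      one_mul, inv_one, mul_one]
    exact hcomm.eq.symm

/-- Each involution of the four-group is fixed by an inverter. -/
theorem Hyp.frame_at (h : Hyp G) {y v : G} (hy : Three y) (hv : InV y v) (hv1 : v ≠ 1) :
    ∃ (b g : G), b * b = 1 ∧ Commute g y ∧ g ^ 3 = 1 ∧ g ∉ zpowers y ∧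
      b * y * b⁻¹ = y⁻¹ ∧ b * g * b⁻¹ = g⁻¹ ∧ Commute b v := by
  obtain ⟨b, g, hb, hg, hg3, hgy, hby, hbg⟩ := h.frame hy
  obtain ⟨v0, hv0, hv01, hbv0⟩ := h.exists_fixed hy hb hby hg hg3 hgy
  obtain ⟨c, hcg, hcv⟩ : ∃ c ∈ zpowers g, v = c * v0 * c⁻¹ := by
    rcases (h.inV_cases hy hg hg3 hgy hv0 hv01 v hv).1 with e | e | e | e
    · exact absurd e hv1
    · exact ⟨1, one_mem _, by rw [e, one_mul, inv_one, mul_one]⟩
    · exact ⟨g, mem_zpowers g, e⟩
    · exact ⟨g ^ 2, pow_mem (mem_zpowers g) 2, e⟩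
  obtain ⟨i, rfl⟩ := mem_zpowers_iff.1 hcg
  set c := g ^ i
  refine ⟨c * b * c⁻¹, g, by rw [conj_mul, hb, mul_one, mul_inv_cancel], hg, hg3, hgy, ?_, ?_, ?_⟩
  · have hcy : Commute c y := hg.zpow_left i
    calc c * b * c⁻¹ * y * (c * b * c⁻¹)⁻¹ = c * (b * (c⁻¹ * y * c) * b⁻¹) * c⁻¹ := by group
      _ = c * y⁻¹ * c⁻¹ := by rw [mul_assoc c⁻¹ y c, ← hcy.eq, inv_mul_cancel_left, hby]
      _ = y⁻¹ := by rw [hcy.inv_right.eq, mul_inv_cancel_right]
  · have hcg' : Commute c g := (Commute.refl g).zpow_left i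
    calc c * b * c⁻¹ * g * (c * b * c⁻¹)⁻¹ = c * (b * (c⁻¹ * g * c) * b⁻¹) * c⁻¹ := by group
      _ = c * g⁻¹ * c⁻¹ := by rw [mul_assoc c⁻¹ g c, ← hcg'.eq, inv_mul_cancel_left, hbg]
      _ = g⁻¹ := by rw [hcg'.inv_right.eq, mul_inv_cancel_right]
  · show c * b * c⁻¹ * v = v * (c * b * c⁻¹)
    rw [hcv, conj_mul, conj_mul, hbv0.eq]

theorem Hyp.centralizer_involution (h : Hyp G) {y v : G} (hy : Three y) (hv : InV y v) (hv1 : v ≠ 1) :
    Nat.card (centralizer ({v} : Set G)) = 24 ∧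
    (∀ a, Commute a v → a * y * a⁻¹ = y ∨ a * y * a⁻¹ = y⁻¹) ∧
    (∀ a, Commute a v → Commute a y → a ^ 6 = 1 ∧ InV y (a ^ 3) ∧ (∀ w, InV y w → Commute a w)) ∧
    (∀ a w, Commute a v → a * y * a⁻¹ = y⁻¹ → InV y w → Commute a w → w = 1 ∨ w = v) := by
  classical
  have h2 : Fact (Nat.Prime 2) := ⟨Nat.prime_two⟩
  obtain ⟨b, g, hb, hg, hg3, hgy, hby, hbg, hbv⟩ := h.frame_at hy hv hv1
  obtain ⟨V, hV4, hV⟩ := h.four hy
  set N := normalizer ((zpowers y : Subgroup G) : Set G) with hN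
  set C := centralizer ({y} : Set G) with hC
  set D := centralizer ({v} : Set G) with hD
  set W := D ⊓ N with hW
  have hyy : y⁻¹ ≠ y := fun e => by
    have h2' : orderOf y ∣ 2 := orderOf_dvd_of_pow_eq_one (by rw [sq]; exact inv_eq_iff_mul_eq_one.1 e)
    rw [hy.ord] at h2'
    norm_num at h2'
  have hy3 : y ^ 3 = 1 := hy.ord ▸ pow_orderOf_eq_one y
  -- the meet of the two centralisers
  have hVD : ∀ w, InV y w → Commute w v := fun w hw => (h.inV_mul hy hw hv).2
  have hmem : ∀ z : zpowers y × V, ((z.1 : G) * (z.2 : G)) ∈ D ⊓ C := by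
    rintro ⟨⟨p, hp⟩, ⟨w, hw⟩⟩
    obtain ⟨i, rfl⟩ := mem_zpowers_iff.1 hp
    exact ⟨mem_centralizer_singleton_iff.2 ((hv.1.symm.zpow_left i).mul_left (hVD w ((hV w).1 hw))).eq,
      mem_centralizer_singleton_iff.2 (((Commute.refl y).zpow_left i).mul_left ((hV w).1 hw).1).eq⟩
  have hdis : Disjoint (zpowers y) V := disjoint_iff.2 (inf_eq_bot_of_coprime (by
    rw [Nat.card_zpowers, hy.ord, hV4]; norm_num))
  let F : zpowers y × V → ↥(D ⊓ C) := fun z => ⟨(z.1 : G) * (z.2 : G), hmem z⟩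
  have hFi : Function.Injective F := fun p q e => mul_injective_of_disjoint hdis (congrArg Subtype.val e)
  have hDC : Nat.card ↥(D ⊓ C) = 12 := by
    have hle := Nat.card_le_card_of_injective F hFi
    rw [Nat.card_prod, Nat.card_zpowers, hy.ord, hV4] at hle
    have hd : Nat.card ↥(D ⊓ C) ∣ 36 := hy.card ▸ card_dvd_of_le inf_le_right
    have h9 : ¬ 9 ∣ Nat.card ↥(D ⊓ C) := by
      intro h9
      obtain ⟨T, hT⟩ := Sylow.exists_subgroup_card_pow_prime (p := 3) (n := 2) (G := ↥(D ⊓ C))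
        (by simpa using h9)
      have hyT : ∃ t : T, (((t : ↥(D ⊓ C)) : G)) ∉ zpowers y := by
        by_contra! hcon
        have := Nat.card_le_card_of_injective (fun t : T => (⟨_, hcon t⟩ : zpowers y))
          fun p q e => Subtype.ext (Subtype.ext (congrArg (fun z : zpowers y => (z : G)) e))
        rw [hT, Nat.card_zpowers, hy.ord] at this
        omega
      obtain ⟨⟨⟨t, htD⟩, htT⟩, ht⟩ := hyT
      obtain ⟨P, hP⟩ := (IsPGroup.of_card (n := 2) (by
        rw [← Nat.card_congr (T.equivMapOfInjective _ (D ⊓ C).subtype_injective).toEquiv, hT]) :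
        IsPGroup 3 (T.map (D ⊓ C).subtype)).exists_le_sylow
      exact hv1 (h.fpf hy (commute_of_mem_centralizer htD.2)
        (h.exponent_three P (hP ⟨⟨t, htD⟩, htT, rfl⟩)) ht hv (commute_of_mem_centralizer htD.1))
    have key : ∀ d ∈ Nat.divisors 36, 3 * 4 ≤ d → ¬ 9 ∣ d → d = 12 := by decide
    exact key _ (Nat.mem_divisors.2 ⟨hd, by norm_num⟩) hle h9
  have hFs := (hFi.bijective_of_nat_card_le (by rw [hDC, Nat.card_prod, Nat.card_zpowers, hy.ord, hV4])).2
  have hinner : ∀ a, Commute a v → Commute a y → a ^ 6 = 1 ∧ InV y (a ^ 3) ∧ (∀ w, InV y w → Commute a w) := by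
    intro a hav hay
    obtain ⟨⟨⟨p, hp⟩, ⟨w, hw⟩⟩, e⟩ := hFs ⟨a, mem_centralizer_singleton_iff.2 hav.eq,
      mem_centralizer_singleton_iff.2 hay.eq⟩
    obtain rfl : p * w = a := congrArg Subtype.val e
    have hw' := (hV w).1 hw
    obtain ⟨i, rfl⟩ := mem_zpowers_iff.1 hp
    have hcm : Commute (y ^ i) w := hw'.1.symm.zpow_left i
    have hp3 : (y ^ i) ^ 3 = 1 := by
      rw [← zpow_natCast, zpow_comm, zpow_natCast, hy3, one_zpow]
    refine ⟨?_, ?_, fun w' hw'' => (hw''.1.symm.zpow_left i).mul_left (h.inV_mul hy hw' hw'').2⟩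
    · rw [hcm.mul_pow, show (6 : ℕ) = 3 * 2 from rfl, pow_mul, hp3, one_pow, one_mul,
        show (3 : ℕ) * 2 = 2 * 3 from rfl, pow_mul, sq, hw'.2, one_pow]
    · rw [hcm.mul_pow, hp3, one_mul, pow_succ, sq, hw'.2, one_mul]
      exact hw'
  -- the normaliser part
  have hnorm : ∀ a ∈ N, a * y * a⁻¹ = y ∨ a * y * a⁻¹ = y⁻¹ := by
    intro a ha
    obtain ⟨k, hk⟩ := mem_zpowers_iff.1 ((mem_normalizer_iff.1 ha y).1 (mem_zpowers y))
    rw [← zpow_mod_orderOf, hy.ord] at hk
    rcases (show k % (3 : ℕ) = 0 ∨ k % (3 : ℕ) = 1 ∨ k % (3 : ℕ) = 2 by omega) with e | e | e <;>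
      rw [e] at hk
    · rw [zpow_zero, eq_comm, conj_eq_one_iff] at hk
      have := hy.ord
      rw [hk, orderOf_one] at this
      omega
    · exact Or.inl (by rw [← hk, zpow_one])
    · refine Or.inr ?_
      rw [← hk, eq_inv_iff_mul_eq_one, zpow_ofNat, ← pow_succ, hy3]
  have hbW : b ∈ W := by
    refine ⟨mem_centralizer_singleton_iff.2 hbv.eq, Layer.mem_normalizer_of_conj_mem fun z hz => ?_⟩
    obtain ⟨i, rfl⟩ := mem_zpowers_iff.1 hz
    rw [← conj_zpow, hby]
    exact zpow_mem (inv_mem (mem_zpowers y)) i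
  have hDCW : D ⊓ C ≤ W := inf_le_inf_left _ (centralizer_le_normalizer_zpowers y)
  have hW24 : Nat.card W = 24 := by
    have hout : ∀ w : W, (w : G) ∉ D ⊓ C → (b * (w : G)) ∈ D ⊓ C := fun w hw => by
      refine ⟨mul_mem hbW.1 w.2.1, mem_centralizer_singleton_iff.2 (mul_inv_eq_iff_eq_mul.1 ?_)⟩
      rcases hnorm _ w.2.2 with e | e
      · exact absurd ⟨w.2.1, mem_centralizer_singleton_iff.2 (mul_inv_eq_iff_eq_mul.1 e)⟩ hw
      · rw [show b * (w : G) * y * (b * (w : G))⁻¹ = b * ((w : G) * y * (w : G)⁻¹) * b⁻¹ by group, e,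
          ← conj_inv, hby, inv_inv]
    let Φ : W → (D ⊓ C : Subgroup G) × Bool := fun w =>
      if hw : (w : G) ∈ D ⊓ C then (⟨w, hw⟩, true) else (⟨b * w, hout w hw⟩, false)
    have hΦ : Function.Injective Φ := by
      intro p r e
      simp only [Φ] at e
      split_ifs at e with hp hr hr
      · exact Subtype.ext (congrArg Subtype.val (Prod.ext_iff.1 e).1 :)
      · simp at e
      · simp at e
      · exact Subtype.ext (mul_left_cancel (congrArg Subtype.val (Prod.ext_iff.1 e).1 :))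
    have hle := Nat.card_le_card_of_injective Φ hΦ
    rw [Nat.card_prod, hDC, Nat.card_eq_fintype_card (α := Bool), Fintype.card_bool] at hle
    obtain ⟨j, hj⟩ := card_dvd_of_le hDCW
    rw [hDC] at hj
    have hj1 : j ≠ 1 := fun e => by
      have hbC : b ∈ D ⊓ C := (eq_of_le_of_card_ge hDCW (by rw [hDC, hj, e])).ge hbW
      exact hyy (hby.symm.trans (mul_inv_eq_iff_eq_mul.2 (commute_of_mem_centralizer hbC.2).eq))
    have hj0 : j ≠ 0 := fun e => by
      rw [e, mul_zero] at hj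
      exact Nat.card_pos.ne' hj
    omega
  have hv2 : orderOf v = 2 := orderOf_eq_prime (by rw [sq]; exact hv.2) hv1
  have hD24 : Nat.card D = 24 := by
    have h24 : 24 ∣ Nat.card D := hW24 ▸ card_dvd_of_le inf_le_left
    have hle := h.card_le (h.centralizer_ne_top hv1)
    have h7 := h.seven_not_dvd hv1 (by rw [hv2]; norm_num)
    have h9 : ¬ 9 ∣ Nat.card D := by
      intro h9
      obtain ⟨T, hT⟩ := Sylow.exists_subgroup_card_pow_prime (p := 3) (n := 2) (G := D) (by simpa using h9)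
      obtain ⟨P, hP⟩ := (IsPGroup.of_card (n := 2) (by
        rw [← Nat.card_congr (T.equivMapOfInjective _ D.subtype_injective).toEquiv, hT]) :
        IsPGroup 3 (T.map D.subtype)).exists_le_sylow
      have e := eq_of_le_of_card_ge hP (by
        rw [← Nat.card_congr (T.equivMapOfInjective _ D.subtype_injective).toEquiv, hT,
          h.card_sylow_three P]; norm_num)
      have hvP : v ∈ centralizer ((P : Subgroup G) : Set G) := mem_centralizer_iff.2 fun p hp => by
        rw [← e] at hp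
        obtain ⟨p', -, rfl⟩ := hp
        exact mem_centralizer_singleton_iff.1 p'.2
      rw [h.centralizer_sylow_eq P] at hvP
      have := (P : Subgroup G).orderOf_dvd_natCard hvP
      rw [hv2, h.card_sylow_three P] at this
      norm_num at this
    have key : ∀ d ∈ Nat.divisors 2520, d ≤ 315 → 24 ∣ d → ¬ 7 ∣ d → ¬ 9 ∣ d → d = 24 ∨ d = 120 := by
      decide +kernel
    rcases key _ (Nat.mem_divisors.2 ⟨h.card_dvd D, by norm_num⟩) hle h24 h7 h9 with e | e
    · exact e
    · exfalso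
      have hyD : zpowers y ≤ D := zpowers_le.2 (mem_centralizer_singleton_iff.2 hv.1.symm.eq)
      set P0 := (zpowers y).subgroupOf D with hP0
      have hP0c : Nat.card P0 = 3 := by
        rw [hP0, Nat.card_congr (subgroupOfEquivOfLe hyD).toEquiv, Nat.card_zpowers, hy.ord]
      have hP0i : ¬ 3 ∣ P0.index := by
        have := P0.card_mul_index
        rw [hP0c, e] at this
        omega
      let P : Sylow 3 D := (IsPGroup.of_card (n := 1) (by rw [hP0c, pow_one]) : IsPGroup 3 P0).toSylow hP0i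
      have hnP : Nat.card (normalizer ((P : Subgroup D) : Set D)) = 24 := by
        show Nat.card (normalizer ((P0 : Subgroup D) : Set D)) = 24
        rw [hP0, ← subgroupOf_normalizer_eq hyD, ← inf_subgroupOf_left, ← hN, ← hW24]
        exact Nat.card_congr (subgroupOfEquivOfLe inf_le_left).toEquiv
      have hmul := card_sylow_mul_card_normalizer P
      have hmod : Nat.card (Sylow 3 D) % 3 = 1 := card_sylow_mod 3
      rw [hnP, e] at hmul
      omega
  have hWD : W = D := eq_of_le_of_card_ge inf_le_left (by rw [hW24, hD24])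
  have hnorm' : ∀ a, Commute a v → a * y * a⁻¹ = y ∨ a * y * a⁻¹ = y⁻¹ := fun a ha =>
    hnorm a (hWD.ge (mem_centralizer_singleton_iff.2 ha.eq)).2
  refine ⟨hD24, hnorm', hinner, fun a w hav hay hw haw => ?_⟩
  by_contra! hcon
  -- then the inverter would centralise `w`
  have hba : Commute (b * a) y := mul_inv_eq_iff_eq_mul.1 (by
    rw [show b * a * y * (b * a)⁻¹ = b * (a * y * a⁻¹) * b⁻¹ by group, hay, ← conj_inv, hby, inv_inv])
  have hbaw := (hinner _ (hbv.mul_left hav) hba).2.2 w hw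
  have hbw : Commute b w := by
    have := hbaw.mul_left haw.inv_left
    rwa [mul_inv_cancel_right] at this
  have hbi : b⁻¹ = b := inv_eq_of_mul_eq_one_right hb
  -- so it centralises the whole four-group, but it inverts `g`
  have hp := (h.inV_cases hy hg hg3 hgy hv hv1 1 (InV.one y)).2
  have hb1 : Commute b (g * v * g⁻¹) := by
    rcases (h.inV_cases hy hg hg3 hgy hv hv1 w hw).1 with e' | e' | e' | e'
    · exact absurd e' hcon.1
    · exact absurd e' hcon.2
    · exact e' ▸ hbw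
    · rw [← hp] at e'
      have hh := hbv.mul_right (e' ▸ hbw : Commute b (v * (g * v * g⁻¹)))
      rwa [← mul_assoc, hv.2, one_mul] at hh
  have hall : ∀ u, InV y u → Commute b u := by
    intro u hu
    rcases (h.inV_cases hy hg hg3 hgy hv hv1 u hu).1 with e | e | e | e
    · rw [e]; exact Commute.one_right b
    · rw [e]; exact hbv
    · rw [e]; exact hb1
    · rw [e, ← hp]; exact hbv.mul_right hb1
  have hgv : InV y (g * v * g⁻¹) := hv.conj_of_normalizes (Or.inl (by rw [hg.eq, mul_inv_cancel_right]))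
  have h1 : b * (g * v * g⁻¹) * b⁻¹ = g * v * g⁻¹ := mul_inv_eq_iff_eq_mul.2 (hall _ hgv).eq
  have h3 : b * (g * v * g⁻¹) * b⁻¹ = g⁻¹ * v * g := by
    rw [show b * (g * v * g⁻¹) * b⁻¹ = (b * g * b⁻¹) * (b * v * b⁻¹) * (b * g * b⁻¹)⁻¹ by group, hbg,
      mul_inv_eq_iff_eq_mul.2 hbv.eq, inv_inv]
  refine hv1 (h.fpf hy (hg.pow_left 2)
    (by rw [← pow_mul, show 2 * 3 = 3 * 2 from rfl, pow_mul, hg3, one_pow]) (fun hm => hgy ?_) hv ?_)
  · have : g = (g ^ 2) ^ 2 := by rw [← pow_mul, show 2 * 2 = 3 + 1 from rfl, pow_succ, hg3, one_mul]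
    rw [this]; exact pow_mem hm 2
  · have e := h1.symm.trans h3
    show g ^ 2 * v = v * g ^ 2
    calc g ^ 2 * v = g * (g * v * g⁻¹) * g := by rw [sq]; group
      _ = g * (g⁻¹ * v * g) * g := by rw [e]
      _ = v * g ^ 2 := by rw [sq]; group

/-- All involutions are conjugate. -/
theorem Hyp.involution (h : Hyp G) {y v : G} (hy : Three y) (hv : InV y v) (hv1 : v ≠ 1) {t : G}
    (ht : orderOf t = 2) : IsConj v t := by
  classical
  have h2 : Fact (Nat.Prime 2) := ⟨Nat.prime_two⟩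
  obtain ⟨hD24, hnorm, hinner, hfix⟩ := h.centralizer_involution hy hv hv1
  obtain ⟨b, g, hb, hg, hg3, hgy, hby, hbg, hbv⟩ := h.frame_at hy hv hv1
  have hv2 : orderOf v = 2 := orderOf_eq_prime (by rw [sq]; exact hv.2) hv1
  set N := normalizer ((zpowers y : Subgroup G) : Set G) with hN
  have hsq : ∀ a : G, orderOf a = 2 → a * a = 1 := fun a ha => by rw [← sq, ← ha, pow_orderOf_eq_one]
  -- the two inverting involutions at `v` are conjugate
  have hcls : ∀ a a', a * a = 1 → Commute a v → a * y * a⁻¹ = y⁻¹ → a' * a' = 1 → Commute a' v →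
      a' * y * a'⁻¹ = y⁻¹ → IsConj a a' := by
    intro a a' ha hav hay ha' hav' hay'
    have hai : a⁻¹ = a := inv_eq_of_mul_eq_one_right ha
    have hp : Commute (a' * a) y := mul_inv_eq_iff_eq_mul.1 (by
      rw [show a' * a * y * (a' * a)⁻¹ = a' * (a * y * a⁻¹) * a'⁻¹ by group, hay, ← conj_inv, hay', inv_inv])
    obtain ⟨h6, h3V, hcV⟩ := hinner _ (hav'.mul_left hav) hp
    set d := a' * a with hd
    have hda : a * d * a⁻¹ = d⁻¹ := by
      rw [hd, mul_inv_rev, inv_eq_of_mul_eq_one_right ha', hai,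
        show a * (a' * a) * a = a * a' * (a * a) by group, ha, mul_one]
    -- the part of order three
    have hz : IsConj a (d ^ 4 * a) := by
      refine isConj_iff.2 ⟨d ^ 2, ?_⟩
      rw [← inv_pow, ← hda, conj_pow, hai]
      calc d ^ 2 * a * (a * d ^ 2 * a) = d ^ 2 * (a * a) * d ^ 2 * a := by group
        _ = d ^ 4 * a := by rw [ha, mul_one, ← pow_add]
    have hw : Commute a (d ^ 3) := by
      refine mul_inv_eq_iff_eq_mul.1 ?_
      rw [← conj_pow, hda, inv_pow, inv_eq_iff_mul_eq_one, ← pow_add, h6]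
    have ha'e : a' = d ^ 4 * (d ^ 3 * a) := by
      rw [← mul_assoc, ← pow_add, show 4 + 3 = 6 + 1 from rfl, pow_succ, h6, one_mul, hd, mul_assoc, ha,
        mul_one]
    rcases hfix a _ hav hay h3V hw with e | e
    · rw [e, one_mul] at ha'e; exact ha'e ▸ hz
    · rw [e] at ha'e
      refine hz.trans ?_
      -- conjugate by an element of the four-group moved by `a`
      set w := g * v * g⁻¹ with hwdef
      have hwV : InV y w := hv.conj_of_normalizes (Or.inl (by rw [hg.eq, mul_inv_cancel_right]))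
      have hnc : ¬ Commute a w := fun hc => by
        rcases hfix a w hav hay hwV hc with e' | e'
        · exact hv1 (conj_eq_one_iff.1 e')
        · exact hv1 (h.fpf hy hg hg3 hgy hv (mul_inv_eq_iff_eq_mul.1 e'))
      have hw' : InV y (a * w * a⁻¹) := hwV.conj_of_normalizes (Or.inr hay)
      obtain ⟨hm, hcm⟩ := h.inV_mul hy hwV hw'
      have hfixm : Commute a (w * (a * w * a⁻¹)) := mul_inv_eq_iff_eq_mul.1 (by
        rw [show a * (w * (a * w * a⁻¹)) * a⁻¹ = (a * w * a⁻¹) * ((a * a) * w * (a * a)⁻¹) by group, ha,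
          one_mul, inv_one, mul_one]
        exact hcm.eq.symm)
      have hwv : w * (a * w * a⁻¹) = v := by
        refine (hfix a _ hav hay hm hfixm).resolve_left fun e' => hnc ?_
        exact mul_inv_eq_iff_eq_mul.1 (((mul_eq_one_iff_eq_inv.1 e').trans hw'.inv_eq).symm)
      refine isConj_iff.2 ⟨w, ?_⟩
      have hdw : Commute (d ^ 4) w := (hcV w hwV).pow_left 4
      rw [ha'e, hwV.inv_eq]
      calc w * (d ^ 4 * a) * w = d ^ 4 * (w * (a * w * a⁻¹)) * a := by
            rw [← mul_assoc w, ← hdw.eq]; group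
        _ = d ^ 4 * (v * a) := by rw [hwv, mul_assoc]
  -- some inverting involution is conjugate to `v`
  have hinv : ∃ a, a * a = 1 ∧ Commute a v ∧ a * y * a⁻¹ = y⁻¹ ∧ IsConj v a := by
    by_contra! hcon
    have hNidx : N.index ∣ 35 ∧ N ≠ ⊤ := by
      have hlt : 36 < Nat.card N := by
        rw [← hy.card]
        by_contra! hle
        have hbN : b ∈ N := Layer.mem_normalizer_of_conj_mem fun z hz => by
          obtain ⟨i, rfl⟩ := mem_zpowers_iff.1 hz
          rw [← conj_zpow, hby]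
          exact zpow_mem (inv_mem (mem_zpowers y)) i
        have e := eq_of_le_of_card_ge (centralizer_le_normalizer_zpowers y) hle
        rw [← hN] at e
        have hbc := commute_of_mem_centralizer (e ▸ hbN)
        rw [hbc.eq, mul_inv_cancel_right] at hby
        have hy2 : orderOf y ∣ 2 := orderOf_dvd_of_pow_eq_one (by
          rw [sq]; nth_rewrite 1 [hby]; rw [inv_mul_cancel])
        rw [hy.ord] at hy2
        norm_num at hy2
      have hd : Nat.card N ∣ (3 - 1) * 36 := hy.card ▸ (prime_normalizer_dvd hy.ord).1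
      have hmul := N.card_mul_index
      rw [h.card] at hmul
      have key : ∀ d ∈ Nat.divisors 72, 36 < d → d = 72 := by decide
      have hN72 := key _ (Nat.mem_divisors.2 ⟨by simpa using hd, by norm_num⟩) hlt
      rw [hN72] at hmul
      exact ⟨⟨1, by omega⟩, fun e => by rw [e, card_top, h.card] at hN72; omega⟩
    obtain ⟨j, hj0, hj⟩ := four_dvd_moved h.not_comm N hNidx.2 hv2
    have hvN : v ∈ N := centralizer_le_normalizer_zpowers y (mem_centralizer_singleton_iff.2 hv.1.eq)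
    have hone : ∀ x : G ⧸ N, v • x = x → x = ((1 : G) : G ⧸ N) := by
      intro x hx
      obtain ⟨c, rfl⟩ := QuotientGroup.mk_surjective x
      rw [MulAction.Quotient.smul_mk, QuotientGroup.eq, smul_eq_mul] at hx
      have hu : c⁻¹ * v * c ∈ N := by
        have := inv_mem hx
        simpa [mul_assoc] using this
      set u := c⁻¹ * v * c with hudef
      have hu2 : u * u = 1 := by rw [hudef, show c⁻¹ * v * c * (c⁻¹ * v * c) = c⁻¹ * (v * v) * c by group, hv.2, mul_one, inv_mul_cancel]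
      have huc : IsConj v u := isConj_iff.2 ⟨c⁻¹, by rw [inv_inv]⟩
      obtain ⟨k, hk⟩ := mem_zpowers_iff.1 ((mem_normalizer_iff.1 hu y).1 (mem_zpowers y))
      rw [← zpow_mod_orderOf, hy.ord] at hk
      have hy3 : y ^ 3 = 1 := hy.ord ▸ pow_orderOf_eq_one y
      rw [QuotientGroup.eq, mul_one]
      refine inv_mem ?_
      rcases (show k % (3 : ℕ) = 0 ∨ k % (3 : ℕ) = 1 ∨ k % (3 : ℕ) = 2 by omega) with e | e | e <;>
        rw [e] at hk
      · rw [zpow_zero, eq_comm, conj_eq_one_iff] at hk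
        have := hy.ord
        rw [hk, orderOf_one] at this
        omega
      · -- a central one
        rw [zpow_one, eq_comm, mul_inv_eq_iff_eq_mul] at hk
        have huV : InV y u := ⟨hk, hu2⟩
        have hu1 : u ≠ 1 := fun e' => hv1 (by rw [e'] at huc; exact isConj_one_left.1 huc)
        obtain ⟨p, hpy, hpu⟩ : ∃ p, Commute p y ∧ u = p * v * p⁻¹ := by
          rcases (h.inV_cases hy hg hg3 hgy hv hv1 u huV).1 with e' | e' | e' | e'
          · exact absurd e' hu1
          · exact ⟨1, Commute.one_left y, by rw [e', one_mul, inv_one, mul_one]⟩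
          · exact ⟨g, hg, e'⟩
          · exact ⟨g ^ 2, hg.pow_left 2, e'⟩
        have hcp : Commute (c * p) v := by
          refine mul_inv_eq_iff_eq_mul.1 ?_
          rw [show c * p * v * (c * p)⁻¹ = c * (p * v * p⁻¹) * c⁻¹ by group, ← hpu, hudef]
          group
        have hcpN : c * p ∈ N := by
          refine Layer.mem_normalizer_of_conj_mem fun z hz => ?_
          obtain ⟨i, rfl⟩ := mem_zpowers_iff.1 hz
          rw [← conj_zpow]
          rcases hnorm _ hcp with e' | e' <;> rw [e']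
          · exact zpow_mem (mem_zpowers y) i
          · exact zpow_mem (inv_mem (mem_zpowers y)) i
        have := mul_mem hcpN (inv_mem (centralizer_le_normalizer_zpowers y
          (mem_centralizer_singleton_iff.2 hpy.eq)))
        rwa [mul_inv_cancel_right] at this
      · -- an inverting one
        exfalso
        have hyu : u * y * u⁻¹ = y⁻¹ := by
          rw [← hk, eq_inv_iff_mul_eq_one, zpow_ofNat, ← pow_succ, hy3]
        obtain ⟨w, hw, hw1, huw⟩ := h.exists_fixed hy hu2 hyu hg hg3 hgy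
        obtain ⟨p, hpy, hpw⟩ : ∃ p, Commute p y ∧ w = p * v * p⁻¹ := by
          rcases (h.inV_cases hy hg hg3 hgy hv hv1 w hw).1 with e' | e' | e' | e'
          · exact absurd e' hw1
          · exact ⟨1, Commute.one_left y, by rw [e', one_mul, inv_one, mul_one]⟩
          · exact ⟨g, hg, e'⟩
          · exact ⟨g ^ 2, hg.pow_left 2, e'⟩
        refine hcon (p⁻¹ * u * p) (by
          rw [show p⁻¹ * u * p * (p⁻¹ * u * p) = p⁻¹ * (u * u) * p by group, hu2, mul_one,
            inv_mul_cancel]) (mul_inv_eq_iff_eq_mul.1 ?_) ?_ (huc.trans (isConj_iff.2 ⟨p⁻¹, by rw [inv_inv]⟩))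
        · have e1 : u * w * u⁻¹ = w := mul_inv_eq_iff_eq_mul.2 huw.eq
          calc p⁻¹ * u * p * v * (p⁻¹ * u * p)⁻¹ = p⁻¹ * (u * (p * v * p⁻¹) * u⁻¹) * p := by group
            _ = p⁻¹ * (p * v * p⁻¹) * p := by rw [← hpw, e1]
            _ = v := by group
        · calc p⁻¹ * u * p * y * (p⁻¹ * u * p)⁻¹ = p⁻¹ * (u * (p * y * p⁻¹) * u⁻¹) * p := by group
            _ = p⁻¹ * y⁻¹ * p := by rw [mul_inv_eq_iff_eq_mul.2 hpy.eq, hyu]
            _ = y⁻¹ := by rw [mul_assoc, ← hpy.inv_right.eq, inv_mul_cancel_left]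
    have hle : Nat.card (MulAction.fixedBy (G ⧸ N) v) ≤ 1 := by
      rw [Finite.card_le_one_iff_subsingleton]
      exact ⟨fun p r => Subtype.ext ((hone _ p.2).trans (hone _ r.2).symm)⟩
    have hidx : N.index = 1 ∨ N.index = 5 ∨ N.index = 7 ∨ N.index = 35 := by
      have key : ∀ d ∈ Nat.divisors 35, d = 1 ∨ d = 5 ∨ d = 7 ∨ d = 35 := by decide
      exact key _ (Nat.mem_divisors.2 ⟨hNidx.1, by norm_num⟩)
    have h7 := h.index_large N hNidx.2
    omega
  obtain ⟨a₀, ha₀, ha₀v, ha₀y, hca₀⟩ := hinv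
  -- move `t` into the centraliser of `v`
  have hT : ∃ t', IsConj t t' ∧ Commute t' v := by
    obtain ⟨T, hT⟩ := (IsPGroup.of_card (n := 1) (by rw [Nat.card_zpowers, ht, pow_one]) :
      IsPGroup 2 (zpowers t)).exists_le_sylow
    obtain ⟨P8, hP8⟩ := Sylow.exists_subgroup_card_pow_prime (p := 2) (n := 3)
      (G := centralizer ({v} : Set G)) (by rw [hD24]; norm_num)
    obtain ⟨T', hT'⟩ := (IsPGroup.of_card (n := 3) (by
      rw [← Nat.card_congr (P8.equivMapOfInjective _ (centralizer ({v} : Set G)).subtype_injective).toEquiv, hP8]) :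
      IsPGroup 2 (P8.map (centralizer ({v} : Set G)).subtype)).exists_le_sylow
    have hT8 : Nat.card (T' : Subgroup G) = 8 := by
      rw [card_sylow_eq_pow (p := 2) (a := 3) (m := 315) (by rw [h.card]; norm_num) (by norm_num) T']
      norm_num
    have hTle : (T' : Subgroup G) ≤ centralizer ({v} : Set G) := by
      rw [← eq_of_le_of_card_ge hT' (by
        rw [← Nat.card_congr (P8.equivMapOfInjective _ (centralizer ({v} : Set G)).subtype_injective).toEquiv, hP8, hT8]; norm_num)]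
      exact map_subtype_le _
    obtain ⟨c, hc⟩ := MulAction.exists_smul_eq G T T'
    refine ⟨c * t * c⁻¹, isConj_iff.2 ⟨c, rfl⟩, commute_of_mem_centralizer (hTle ?_)⟩
    rw [← hc]
    exact ⟨t, hT (mem_zpowers t), rfl⟩
  obtain ⟨t', hct, ht'v⟩ := hT
  refine IsConj.trans ?_ hct.symm
  have ht'2 : orderOf t' = 2 := by
    obtain ⟨c, hc⟩ := isConj_iff.1 hct
    rw [← hc, ← ht]
    exact orderOf_injective (MulAut.conj c).toMonoidHom (MulAut.conj c).injective t
  rcases hnorm t' ht'v with e | e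
  · -- a central one
    have htV : InV y t' := ⟨mul_inv_eq_iff_eq_mul.1 e, hsq t' ht'2⟩
    rcases (h.inV_cases hy hg hg3 hgy hv hv1 t' htV).1 with e' | e' | e' | e'
    · rw [e', orderOf_one] at ht'2; omega
    · exact e' ▸ IsConj.refl v
    · exact isConj_iff.2 ⟨g, e'.symm⟩
    · exact isConj_iff.2 ⟨g ^ 2, e'.symm⟩
  · exact hca₀.trans (hcls a₀ t' ha₀ ha₀v ha₀y (hsq t' ht'2) ht'v e)

/-- The possible products of two involutions centralising an involution. -/
theorem Hyp.dichotomy (h : Hyp G) {y t : G} (hy : Three y) (ht : InV y t) (ht1 : t ≠ 1) {a d : G}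
    (ha : a * a = 1) (hat : Commute a t) (hdt : Commute d t) (had : a * d * a⁻¹ = d⁻¹) :
    d ^ 3 = 1 ∨ d * d = 1 ∨ d * d = t ∨ d ^ 3 = t := by
  obtain ⟨-, hnorm, hinner, hfix⟩ := h.centralizer_involution hy ht ht1
  rcases hnorm d hdt with e | e
  · obtain ⟨h6, h3V, hcV⟩ := hinner d hdt (mul_inv_eq_iff_eq_mul.1 e)
    rcases hnorm a hat with e' | e'
    · refine Or.inr (Or.inl ?_)
      have haV : InV y a := ⟨mul_inv_eq_iff_eq_mul.1 e', ha⟩
      rw [(hcV a haV).symm.eq, mul_inv_cancel_right] at had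
      nth_rewrite 1 [had]
      rw [inv_mul_cancel]
    · have hcomm : Commute a (d ^ 3) := mul_inv_eq_iff_eq_mul.1 (by
        rw [← conj_pow, had, inv_pow, inv_eq_iff_mul_eq_one, ← pow_add, h6])
      rcases hfix a _ hat e' h3V hcomm with e'' | e''
      · exact Or.inl e''
      · exact Or.inr (Or.inr (Or.inr e''))
  · have hdd : Commute (d * d) y := mul_inv_eq_iff_eq_mul.1 (by
      rw [show d * d * y * (d * d)⁻¹ = d * (d * y * d⁻¹) * d⁻¹ by group, e, ← conj_inv, e, inv_inv])
    obtain ⟨h6, -, -⟩ := hinner _ (hdt.mul_left hdt) hdd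
    -- the part of order three of `d²` is fixed and inverted
    have hd12 : d ^ 12 = 1 := by
      rw [show 12 = 2 * 6 from rfl, pow_mul, sq, h6]
    have hsq4 : d ^ 4 = 1 := by
      set p := d ^ 8 with hp
      have hp3 : p ^ 3 = 1 := by
        rw [hp, ← pow_mul, show 8 * 3 = 12 * 2 from rfl, pow_mul, hd12, one_pow]
      have hpy : Commute p y := by
        rw [hp, show 8 = 2 * 4 from rfl, pow_mul, sq]; exact hdd.pow_left 4
      have hpd : Commute d p := (Commute.refl d).pow_right 8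
      by_cases hpm : p ∈ zpowers y
      · obtain ⟨i, hi⟩ := mem_zpowers_iff.1 hpm
        have h1 : d * p * d⁻¹ = p⁻¹ := by rw [← hi, ← conj_zpow, e, inv_zpow]
        rw [hpd.eq, mul_inv_cancel_right] at h1
        have hp2 : orderOf p ∣ 2 := orderOf_dvd_of_pow_eq_one (by
          rw [sq]; nth_rewrite 1 [h1]; rw [inv_mul_cancel])
        have hp1 : p = 1 := orderOf_eq_one_iff.1
          (Nat.eq_one_of_dvd_coprimes (by norm_num) hp2 (orderOf_dvd_of_pow_eq_one hp3))
        calc d ^ 4 = d ^ 12 * (d ^ 8)⁻¹ := by group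
          _ = 1 := by rw [hd12, ← hp, hp1, inv_one, one_mul]
      · exact absurd (h.fpf hy hpy hp3 hpm ht (hdt.pow_left 8)) ht1
    have hddV : InV y (d * d) := ⟨hdd, by rw [← hsq4]; simp only [pow_succ, pow_zero, one_mul]; group⟩
    rcases hfix d _ hdt e hddV ((Commute.refl d).mul_right (Commute.refl d)) with e'' | e''
    · exact Or.inr (Or.inl e'')
    · exact Or.inr (Or.inr (Or.inl e''))

end Cfsg.Agent.SmallOrder.Order2520
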