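import Cfsg.Agent.SmallOrder.Order2520.Setup

/-!
# Order 2520: centralisers of elements of the Sylow three-subgroups, and class counting
-/

set_option autoImplicit false

namespace Cfsg.Agent.SmallOrder.Order2520

open Subgroup

variable {G : Type*} [Group G] [Finite G]

theorem card_carrier_mul_centralizer (g : G) :
    Nat.card (ConjClasses.mk g).carrier * Nat.card (centralizer ({g} : Set G)) = Nat.card G := by
  have h1 : (ConjClasses.mk g).carrier = MulAction.orbit (ConjAct G) g :=
    (ConjAct.orbit_eq_carrier_conjClasses g).symm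
  have e : centralizer ({g} : Set G) = (MulAction.stabilizer (ConjAct G) g).comap
      ConjAct.toConjAct.toMonoidHom := by
    ext x
    rw [mem_centralizer_singleton_iff]
    show x * g = g * x ↔ x * g * x⁻¹ = g
    exact mul_inv_eq_iff_eq_mul.symm
  rw [h1, Nat.card_coe_set_eq, ← MulAction.index_stabilizer]
  have e2 : Nat.card (centralizer ({g} : Set G)) = Nat.card (MulAction.stabilizer (ConjAct G) g) := by
    rw [e]
    exact Nat.card_congr (ConjAct.toConjAct.toEquiv.subtypeEquiv fun x => Iff.rfl)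
  rw [e2, mul_comm, card_mul_index]
  exact Nat.card_congr ConjAct.ofConjAct.toEquiv

variable [IsSimpleGroup G]

theorem Hyp.card_orderOf_seven (h : Hyp G) : Nat.card {g : G // orderOf g = 7} = 720 := by
  have : Fact (Nat.Prime 7) := ⟨by norm_num⟩
  rw [card_orderOf_eq_mul h.card_sylow_seven]
  obtain ⟨y, hy⟩ := exists_prime_orderOf_dvd_card' (G := G) 7 (by rw [h.card]; norm_num)
  obtain ⟨P, hP⟩ := exists_sylow_eq_zpowers hy h.card_sylow_seven
  have hmul := card_sylow_mul_card_normalizer P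
  rw [hP, (h.seven hy).1, h.card] at hmul
  omega

theorem Hyp.exists_inverter (h : Hyp G) [Fact (Nat.Prime 3)] (S : Sylow 3 G) :
    (Nat.card (centralizer ((S : Subgroup G) : Set G)) = 9 ∨
      Nat.card (centralizer ((S : Subgroup G) : Set G)) = 18) ∧
    ∃ b ∈ normalizer ((S : Subgroup G) : Set G), ∀ s ∈ (S : Subgroup G), b * s * b⁻¹ = s⁻¹ := by
  have hSa := h.three_comm S
  have hS := h.card_sylow_three S
  have hN := h.three_normalizer S
  set N := normalizer ((S : Subgroup G) : Set G) with hNdef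
  set C := centralizer ((S : Subgroup G) : Set G) with hCdef
  set φ := (S : Subgroup G).normalizerMonoidHom with hφ
  set R := φ.range with hR
  have hker : Nat.card φ.ker = Nat.card C := by
    rw [hφ, normalizerMonoidHom_ker]
    exact Nat.card_congr (subgroupOfEquivOfLe (centralizer_le_normalizer _)).toEquiv
  have hmul : Nat.card R * Nat.card C = 36 := by
    rw [← hker, hR, ← index_ker, mul_comm, card_mul_index, hN]
  have hC9 : 9 ∣ Nat.card C := hS ▸ card_dvd_of_le (le_centralizer _)
  have hR1 : Nat.card R ≠ 1 := fun e => by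
    refine not_normalizer_le_centralizer h.not_comm (by rw [h.card]; norm_num) S ?_
    rw [← hNdef]
    refine (eq_of_le_of_card_ge (centralizer_le_normalizer _) ?_).ge
    rw [hN]
    show 36 ≤ Nat.card C
    rw [e, one_mul] at hmul
    omega
  obtain ⟨c, hc⟩ := hC9
  have hcR : Nat.card R * c = 4 := by rw [hc] at hmul; linarith
  have hR24 : (Nat.card R = 2 ∧ c = 2) ∨ (Nat.card R = 4 ∧ c = 1) := by
    have key : ∀ r ∈ Nat.divisors 4, r = 1 ∨ r = 2 ∨ r = 4 := by decide
    rcases key _ (Nat.mem_divisors.2 ⟨Dvd.intro c hcR, by norm_num⟩) with e | e | e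
    · exact absurd e hR1
    · exact Or.inl ⟨e, by rw [e] at hcR; omega⟩
    · exact Or.inr ⟨e, by rw [e] at hcR; omega⟩
  refine ⟨hR24.elim (fun e => Or.inr (by rw [hc, e.2])) (fun e => Or.inl (by rw [hc, e.2])), ?_⟩
  have hRc : IsMulCommutative R := by
    have : Fact (Nat.Prime 2) := ⟨Nat.prime_two⟩
    rcases hR24 with e | e
    · have := isCyclic_of_prime_card e.1
      exact ⟨⟨IsCyclic.commGroup.mul_comm⟩⟩
    · exact IsPGroup.isMulCommutative_of_card_eq_prime_sq (p := 2) (by rw [e.1]; norm_num)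
  -- the elements of the range come from the normaliser
  have hact : ∀ τ ∈ R, ∃ n ∈ N, ∀ s : (S : Subgroup G), ((τ s : (S : Subgroup G)) : G) = n * s * n⁻¹ := by
    rintro τ ⟨n, rfl⟩
    exact ⟨n, n.2, fun s => rfl⟩
  have htr : ∀ s : (S : Subgroup G), (∀ τ ∈ R, τ s = s) → s = 1 := by
    intro s hs
    refine Subtype.ext (h.eq_one_of_central S s.2 fun n hn => ?_)
    have := congrArg (Subtype.val) (hs (φ ⟨n, hn⟩) ⟨_, rfl⟩)
    exact mem_centralizer_singleton_iff.2 (mul_inv_eq_iff_eq_mul.1 this)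
  obtain ⟨σ', hσ'⟩ := exists_prime_orderOf_dvd_card' (G := R) 2
    (hR24.elim (fun e => by rw [e.1]) (fun e => by rw [e.1]; norm_num)) (hp := ⟨Nat.prime_two⟩)
  set σ : MulAut (S : Subgroup G) := (σ' : MulAut (S : Subgroup G)) with hσdef
  have hσσ : ∀ s, σ (σ s) = s := fun s => by
    have h1 : σ' * σ' = 1 := by rw [← sq, ← hσ', pow_orderOf_eq_one]
    exact DFunLike.congr_fun (congrArg Subtype.val h1) s
  have hcomm : ∀ τ ∈ R, ∀ s, τ (σ s) = σ (τ s) := fun τ hτ s =>
    DFunLike.congr_fun (congrArg Subtype.val (mul_comm' (⟨τ, hτ⟩ : R) σ')) s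
  suffices ∃ τ ∈ R, ∀ s, τ s = s⁻¹ by
    obtain ⟨τ, hτ, hτs⟩ := this
    obtain ⟨n, hn, hns⟩ := hact τ hτ
    exact ⟨n, hn, fun s hs => by rw [← hns ⟨s, hs⟩, hτs]; rfl⟩
  by_cases hfix : ∀ s, σ s = s → s = 1
  · refine ⟨σ, σ'.2, fun s => eq_inv_of_mul_eq_one_right (hfix _ ?_)⟩
    rw [map_mul, hσσ, mul_comm']
  push Not at hfix
  obtain ⟨f, hf, hf1⟩ := hfix
  -- the range has order four
  have hR4 : Nat.card R = 4 := by
    rcases hR24 with e | e
    · exfalso
      refine hf1 (htr f fun τ hτ => ?_)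
      have h2 : zpowers σ' = ⊤ := eq_top_of_card_eq _ (by rw [Nat.card_zpowers, hσ', e.1])
      obtain ⟨i, hi⟩ := mem_zpowers_iff.1 (h2 ▸ mem_top (⟨τ, hτ⟩ : R))
      have : σ ^ i = τ := by
        have := congrArg Subtype.val hi
        simpa using this
      rw [← this]
      exact zpowers_le.2 (show σ ∈ MulAction.stabilizer (MulAut (S : Subgroup G)) f from hf)
        (zpow_mem_zpowers σ i)
    · exact e.1
  obtain ⟨a, ha⟩ : ∃ a, σ a ≠ a := by
    by_contra! hcon
    have : σ' = 1 := Subtype.ext (MulEquiv.ext hcon)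
    rw [this, orderOf_one] at hσ'
    omega
  set F : Subgroup (S : Subgroup G) :=
    { carrier := {s | σ s = s}
      one_mem' := map_one σ
      mul_mem' := fun {x y} (hx : σ x = x) (hy : σ y = y) => by
        show σ (x * y) = x * y
        rw [map_mul, hx, hy]
      inv_mem' := fun {x} (hx : σ x = x) => by
        show σ x⁻¹ = x⁻¹
        rw [map_inv, hx] } with hF
  set I : Subgroup (S : Subgroup G) :=
    { carrier := {s | σ s = s⁻¹}
      one_mem' := by show σ 1 = 1⁻¹; rw [map_one, inv_one]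
      mul_mem' := fun {x y} (hx : σ x = x⁻¹) (hy : σ y = y⁻¹) => by
        show σ (x * y) = (x * y)⁻¹
        rw [map_mul, hx, hy, mul_inv_rev, mul_comm']
      inv_mem' := fun {x} (hx : σ x = x⁻¹) => by
        show σ x⁻¹ = x⁻¹⁻¹
        rw [map_inv, hx] } with hI
  set i0 := a * (σ a)⁻¹ with hi0
  have hi0I : i0 ∈ I := by
    show σ i0 = i0⁻¹
    rw [hi0, map_mul, map_inv, hσσ, mul_inv_rev, inv_inv]
  have hi01 : i0 ≠ 1 := fun e => ha (mul_inv_eq_one.1 e).symm
  have hdis : Disjoint F I := disjoint_def.2 fun {s} (hs : σ s = s) (hs' : σ s = s⁻¹) => by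
    have h2 : s ^ 2 = 1 := by
      rw [sq]; nth_rewrite 1 [← hs]; rw [hs', inv_mul_cancel]
    have h9 : orderOf s ∣ 9 := hS ▸ _root_.orderOf_dvd_natCard s
    exact orderOf_eq_one_iff.1 (Nat.eq_one_of_dvd_coprimes (by norm_num)
      (orderOf_dvd_of_pow_eq_one h2) h9)
  have hF3 : 3 ≤ Nat.card F ∧ 3 ≤ Nat.card I := by
    have key : ∀ d ∈ Nat.divisors 9, d = 1 ∨ 3 ≤ d := by decide
    constructor
    · refine (key _ (Nat.mem_divisors.2 ⟨hS ▸ F.card_subgroup_dvd_card, by norm_num⟩)).resolve_left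
        fun e => hf1 ((Subgroup.card_eq_one.1 e).le hf)
    · refine (key _ (Nat.mem_divisors.2 ⟨hS ▸ I.card_subgroup_dvd_card, by norm_num⟩)).resolve_left
        fun e => hi01 ((Subgroup.card_eq_one.1 e).le hi0I)
  have hinj : Function.Injective (fun z : F × I => (z.1 : (S : Subgroup G)) * z.2) :=
    mul_injective_of_disjoint hdis
  have hle := Nat.card_le_card_of_injective _ hinj
  rw [Nat.card_prod, hS] at hle
  have hF' : Nat.card F = 3 := by nlinarith
  have hI' : Nat.card I = 3 := by nlinarith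
  have hsurj : ∀ s, ∃ u ∈ F, ∃ v ∈ I, u * v = s := by
    intro s
    obtain ⟨⟨u, v⟩, huv⟩ := (hinj.bijective_of_nat_card_le (by
      rw [Nat.card_prod, hF', hI', hS])).2 s
    exact ⟨u, u.2, v, v.2, huv⟩
  have hthree : ∀ (H : Subgroup (S : Subgroup G)), Nat.card H = 3 → ∀ x ∈ H, x ≠ 1 → ∀ y ∈ H,
      y = 1 ∨ y = x ∨ y = x⁻¹ := by
    intro H hH x hx hx1 y hy
    have h3 : orderOf x = 3 := ((Nat.dvd_prime Nat.prime_three).1
      (by have := H.orderOf_dvd_natCard hx; rwa [hH] at this)).resolve_left fun e => hx1 (orderOf_eq_one_iff.1 e)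
    have he : zpowers x = H := eq_of_le_of_card_ge (zpowers_le.2 hx)
      (by rw [Nat.card_zpowers, h3, hH])
    obtain ⟨k, hk⟩ := mem_zpowers_iff.1 (show y ∈ zpowers x by rw [he]; exact hy)
    rw [← zpow_mod_orderOf, h3] at hk
    rcases (show k % (3 : ℕ) = 0 ∨ k % (3 : ℕ) = 1 ∨ k % (3 : ℕ) = 2 by omega) with e | e | e <;>
      rw [e] at hk
    · exact Or.inl (by rw [← hk, zpow_zero])
    · exact Or.inr (Or.inl (by rw [← hk, zpow_one]))
    · refine Or.inr (Or.inr ?_)
      rw [← hk, eq_inv_iff_mul_eq_one, zpow_ofNat, ← pow_succ, show 2 + 1 = orderOf x from h3.symm,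
        pow_orderOf_eq_one]
  have hpres : ∀ τ ∈ R, (∀ s ∈ F, τ s ∈ F) ∧ (∀ s ∈ I, τ s ∈ I) := fun τ hτ =>
    ⟨fun s (hs : σ s = s) => (show σ (τ s) = τ s by rw [← hcomm τ hτ, hs]),
      fun s (hs : σ s = s⁻¹) => (show σ (τ s) = (τ s)⁻¹ by rw [← hcomm τ hτ, hs, map_inv])⟩
  -- some element of the range inverts the fixed points
  obtain ⟨τ, hτ, hτf⟩ : ∃ τ ∈ R, τ f ≠ f := by
    by_contra! hcon
    exact hf1 (htr f hcon)
  have hτf' : τ f = f⁻¹ := by
    rcases hthree F hF' f hf hf1 (τ f) ((hpres τ hτ).1 f hf) with e | e | e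
    · exact absurd ((map_eq_one_iff τ τ.injective).1 e) hf1
    · exact absurd e hτf
    · exact e
  have hFinv : ∀ u ∈ F, τ u = u⁻¹ := fun u hu => by
    rcases hthree F hF' f hf hf1 u hu with rfl | rfl | rfl
    · rw [map_one, inv_one]
    · exact hτf'
    · rw [map_inv, hτf']
  have hIcase : (∀ v ∈ I, τ v = v) ∨ ∀ v ∈ I, τ v = v⁻¹ := by
    rcases hthree I hI' i0 hi0I hi01 (τ i0) ((hpres τ hτ).2 i0 hi0I) with e | e | e
    · exact absurd ((map_eq_one_iff τ τ.injective).1 e) hi01
    · left
      intro v hv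
      rcases hthree I hI' i0 hi0I hi01 v hv with rfl | rfl | rfl
      · rw [map_one]
      · exact e
      · rw [map_inv, e]
    · right
      intro v hv
      rcases hthree I hI' i0 hi0I hi01 v hv with rfl | rfl | rfl
      · rw [map_one, inv_one]
      · exact e
      · rw [map_inv, e]
  rcases hIcase with e | e
  · refine ⟨σ * τ, mul_mem σ'.2 hτ, fun s => ?_⟩
    obtain ⟨u, hu, v, hv, rfl⟩ := hsurj s
    show σ (τ (u * v)) = _
    rw [map_mul, hFinv u hu, e v hv, map_mul, map_inv, (hu : σ u = u), (hv : σ v = v⁻¹), mul_inv_rev]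
    exact mul_comm' _ _
  · refine ⟨τ, hτ, fun s => ?_⟩
    obtain ⟨u, hu, v, hv, rfl⟩ := hsurj s
    rw [map_mul, hFinv u hu, e v hv, mul_inv_rev]
    exact mul_comm' _ _

theorem Hyp.three_centralizer (h : Hyp G) [Fact (Nat.Prime 3)] (S : Sylow 3 G) {x : G}
    (hxS : x ∈ (S : Subgroup G)) (hx : x ≠ 1) :
    (Nat.card (centralizer ({x} : Set G)) = 9 ∨ Nat.card (centralizer ({x} : Set G)) = 18 ∨
      Nat.card (centralizer ({x} : Set G)) = 36) ∧
    (Nat.card (centralizer ({x} : Set G)) = 18 →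
      centralizer ({x} : Set G) ≤ normalizer ((S : Subgroup G) : Set G)) ∧
    (Nat.card (centralizer ({x} : Set G)) = 36 →
      ∀ n ∈ normalizer ((S : Subgroup G) : Set G), Commute n x → n ∈ (S : Subgroup G)) := by
  obtain ⟨-, b, hbN, hb⟩ := h.exists_inverter S
  have hS := h.card_sylow_three S
  set C := centralizer ({x} : Set G) with hCdef
  have hSC : (S : Subgroup G) ≤ C := h.sylow_le_centralizer S hxS
  have h9 : 9 ∣ Nat.card C := hS ▸ card_dvd_of_le hSC
  have hle := h.card_le (h.centralizer_ne_top hx)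
  have hxo : orderOf x ∣ 9 := hS ▸ (S : Subgroup G).orderOf_dvd_natCard hxS
  have h7 : ¬ 7 ∣ Nat.card C := h.seven_not_dvd hx fun e => by
    have := e.trans hxo
    norm_num at this
  -- the normaliser of `⟨x⟩` is strictly bigger
  set M := normalizer ((zpowers x : Subgroup G) : Set G) with hMdef
  have hCM : C ≤ M := centralizer_le_normalizer_zpowers x
  have hbx : b * x * b⁻¹ = x⁻¹ := hb x hxS
  have hbM : b ∈ M := by
    refine Layer.mem_normalizer_of_conj_mem fun z hz => ?_
    obtain ⟨i, rfl⟩ := mem_zpowers_iff.1 hz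
    rw [← conj_zpow, hbx]
    exact zpow_mem (inv_mem (mem_zpowers x)) i
  have hbC : b ∉ C := fun e => by
    have h1 : x⁻¹ = x := by
      rw [← hbx, (commute_of_mem_centralizer e).eq, mul_inv_cancel_right]
    have h2 : orderOf x ∣ 2 := orderOf_dvd_of_pow_eq_one (by
      rw [sq]; exact inv_eq_iff_mul_eq_one.1 h1)
    exact hx (orderOf_eq_one_iff.1 (Nat.eq_one_of_dvd_coprimes (by norm_num) h2 hxo))
  have hM2 : ∃ j, 2 ≤ j ∧ Nat.card M = j * Nat.card C ∧ Nat.card M ≤ 315 := by
    obtain ⟨j, hj⟩ := card_dvd_of_le hCM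
    refine ⟨j, ?_, by rw [hj, mul_comm], h.card_le (normalizer_sub_ne_top ?_ ?_)⟩
    · by_contra! hlt
      have hCpos : 0 < Nat.card C := Nat.card_pos
      have hMpos : 0 < Nat.card M := Nat.card_pos
      have : j = 1 := by
        interval_cases j
        · omega
        · rfl
      exact hbC (eq_of_le_of_card_ge hCM (by rw [hj, this, mul_one]) ▸ hbM)
    · exact fun e => hx (zpowers_eq_bot.1 e)
    · intro e
      have h1 := congrArg (fun H : Subgroup G => Nat.card H) e
      simp only [Nat.card_zpowers, card_top, h.card] at h1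
      rw [h1] at hxo
      norm_num at hxo
  obtain ⟨j, hj, hjM, hMle⟩ := hM2
  have hMd := h.card_dvd M
  -- Sylow three-subgroups of the centraliser
  let SC : Sylow 3 C := S.subtype hSC
  have hSCcard : Nat.card (SC : Subgroup C) = 9 := by
    show Nat.card ((S : Subgroup G).subgroupOf C) = 9
    rw [Nat.card_congr (subgroupOfEquivOfLe hSC).toEquiv, hS]
  have hnorm : Nat.card (normalizer ((SC : Subgroup C) : Set C)) =
      Nat.card ↥(C ⊓ normalizer ((S : Subgroup G) : Set G)) := by
    show Nat.card (normalizer (((S : Subgroup G).subgroupOf C : Subgroup C) : Set C)) = _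
    rw [← subgroupOf_normalizer_eq hSC, ← inf_subgroupOf_left]
    exact Nat.card_congr (subgroupOfEquivOfLe inf_le_left).toEquiv
  have hmulC := card_sylow_mul_card_normalizer SC
  rw [hnorm] at hmulC
  have hmodC : Nat.card (Sylow 3 C) % 3 = 1 := card_sylow_mod 3
  have hinf36 : Nat.card ↥(C ⊓ normalizer ((S : Subgroup G) : Set G)) ∣ 36 :=
    h.three_normalizer S ▸ card_dvd_of_le inf_le_right
  have hinf9 : 9 ∣ Nat.card ↥(C ⊓ normalizer ((S : Subgroup G) : Set G)) :=
    hS ▸ card_dvd_of_le (le_inf hSC le_normalizer)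
  obtain ⟨n, hn⟩ : ∃ n, Nat.card (Sylow 3 C) = n := ⟨_, rfl⟩
  obtain ⟨w, hw⟩ : ∃ w, Nat.card ↥(C ⊓ normalizer ((S : Subgroup G) : Set G)) = w := ⟨_, rfl⟩
  obtain ⟨c, hc⟩ : ∃ c, Nat.card C = c := ⟨_, rfl⟩
  rw [hn] at hmulC hmodC
  rw [hw] at hmulC hinf36 hinf9
  rw [hc] at hmulC h9 h7 hle hjM ⊢
  have hcd : c ∈ Nat.divisors 2520 := Nat.mem_divisors.2 ⟨hc ▸ h.card_dvd C, by norm_num⟩
  have key : ∀ c ∈ Nat.divisors 2520, c ≤ 315 → 9 ∣ c → ¬ 7 ∣ c →
      c = 9 ∨ c = 18 ∨ c = 36 ∨ c = 72 ∨ c = 45 ∨ c = 90 ∨ c = 180 := by decide +kernel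
  have hsmall : c = 9 ∨ c = 18 ∨ c = 36 := by
    rcases key c hcd hle h9 h7 with e | e | e | e | e | e | e
    · exact Or.inl e
    · exact Or.inr (Or.inl e)
    · exact Or.inr (Or.inr e)
    · -- 72
      subst e
      exfalso
      have hj4 : j ≤ 4 := by omega
      interval_cases j <;> rw [hjM] at hMd <;> norm_num at hMd
    all_goals exfalso
    case _ | _ =>
      -- 45 and 90: Burnside in the centraliser
      have : Fact (Nat.Prime 5) := ⟨by norm_num⟩
      have hw9 : w = 9 := by
        have key' : ∀ w ∈ Nat.divisors 36, 9 ∣ w → w = 9 ∨ w = 18 ∨ w = 36 := by decide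
        rcases key' w (Nat.mem_divisors.2 ⟨hinf36, by norm_num⟩) hinf9 with e' | e' | e' <;>
          subst e' e <;> omega
      subst hw9
      have hCN : normalizer ((SC : Subgroup C) : Set C) ≤ centralizer ((SC : Subgroup C) : Set C) := by
        have he : normalizer ((SC : Subgroup C) : Set C) = (SC : Subgroup C) :=
          (eq_of_le_of_card_ge le_normalizer (by rw [hnorm, hw, hSCcard])).symm
        rw [he]
        have hSC2 : IsMulCommutative (SC : Subgroup C) :=
          IsPGroup.isMulCommutative_of_card_eq_prime_sq (p := 3) (by rw [hSCcard]; norm_num)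
        exact le_centralizer _
      have hcompl := MonoidHom.ker_transferSylow_isComplement' SC hCN
      set K := (MonoidHom.transferSylow SC hCN).ker with hK
      have hK' : Nat.card K * 9 = c := by rw [← hSCcard, hcompl.card_mul, hc]
      obtain ⟨q, hq⟩ := exists_prime_orderOf_dvd_card' (G := C) 5 (by rw [hc, e]; norm_num)
      -- the elements of order five lie in a normal subgroup of order five or ten
      have hqK : ∀ g : C, orderOf g = 5 → g ∈ K := fun g hg => by
        have h1 : orderOf (MonoidHom.transferSylow SC hCN g) ∣ 5 := hg ▸ orderOf_map_dvd _ _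
        have h2 : orderOf (MonoidHom.transferSylow SC hCN g) ∣ 9 := hSCcard ▸ _root_.orderOf_dvd_natCard _
        exact orderOf_eq_one_iff.1 (Nat.eq_one_of_dvd_coprimes (by norm_num) h1 h2)
      have hKq : ∀ g : C, g * q * g⁻¹ ∈ zpowers q := fun g => by
        have hgo : orderOf (g * q * g⁻¹) = 5 := by
          rw [← hq]; exact orderOf_injective (MulAut.conj g).toMonoidHom (MulAut.conj g).injective q
        have hgK := hqK _ hgo
        set r := g * q * g⁻¹ with hr
        set Zq := (zpowers q).subgroupOf K with hZ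
        have hidx : Zq.index ≤ 2 := by
          have h1 := Zq.card_mul_index
          rw [hZ, Nat.card_congr (subgroupOfEquivOfLe (zpowers_le.2 (hqK q hq))).toEquiv,
            Nat.card_zpowers, hq] at h1
          rw [← hZ] at h1
          subst e
          omega
        have hidx0 : Zq.index ≠ 0 := Subgroup.index_ne_zero_of_finite
        have hr2 : r * r ∈ zpowers q := by
          rcases (show Zq.index = 1 ∨ Zq.index = 2 by omega) with e1 | e1
          · rw [index_eq_one] at e1
            have : (⟨r * r, mul_mem hgK hgK⟩ : K) ∈ Zq := e1 ▸ mem_top _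
            exact mem_subgroupOf.1 this
          · exact mem_subgroupOf.1 (mul_self_mem_of_index_two e1 (⟨r, hgK⟩ : K))
        have h5 : r ^ 5 = 1 := hgo ▸ pow_orderOf_eq_one r
        have : r = (r * r) ^ 3 := by rw [← sq, ← pow_mul, pow_succ, h5, one_mul]
        rw [this]
        exact pow_mem hr2 3
      have hCle : C ≤ normalizer ((zpowers (q : G) : Subgroup G) : Set G) := fun g hg => by
        refine Layer.mem_normalizer_of_conj_mem fun z hz => ?_
        obtain ⟨i, rfl⟩ := mem_zpowers_iff.1 hz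
        rw [← conj_zpow]
        refine zpow_mem ?_ i
        obtain ⟨k, hk⟩ := mem_zpowers_iff.1 (hKq ⟨g, hg⟩)
        exact mem_zpowers_iff.2 ⟨k, by simpa using congrArg Subtype.val hk⟩
      refine h.nine_not_dvd_five (q := (q : G)) ((Subgroup.orderOf_coe q).trans hq) ?_
      exact hS ▸ card_dvd_of_le (hSC.trans hCle)
    -- 180
    subst e
    have : j ≤ 1 := by omega
    omega
  refine ⟨hsmall, fun e => ?_, fun e => ?_⟩
  · subst e
    have key' : ∀ w ∈ Nat.divisors 36, 9 ∣ w → w = 9 ∨ w = 18 ∨ w = 36 := by decide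
    have hw18 : w = 18 := by
      rcases key' w (Nat.mem_divisors.2 ⟨hinf36, by norm_num⟩) hinf9 with e | e | e <;> subst e <;> omega
    exact inf_eq_left.1 (eq_of_le_of_card_ge inf_le_left (by rw [hw, hc, hw18]))
  · subst e
    intro m hm hcm
    have key' : ∀ w ∈ Nat.divisors 36, 9 ∣ w → w = 9 ∨ w = 18 ∨ w = 36 := by decide
    rcases key' w (Nat.mem_divisors.2 ⟨hinf36, by norm_num⟩) hinf9 with e | e | e
    · have he : (S : Subgroup G) = C ⊓ normalizer ((S : Subgroup G) : Set G) :=
        eq_of_le_of_card_ge (le_inf hSC le_normalizer) (by rw [hw, hS, e])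
      rw [he]
      exact ⟨mem_centralizer_singleton_iff.2 hcm.eq, hm⟩
    · subst e; omega
    · exfalso
      refine hx (h.eq_one_of_central S hxS ?_)
      rw [← hCdef, ← inf_eq_right]
      exact eq_of_le_of_card_ge inf_le_right (by rw [h.three_normalizer S, hw, e])

theorem Hyp.five (h : Hyp G) {q : G} (hq : orderOf q = 5) :
    Nat.card (normalizer ((zpowers q : Subgroup G) : Set G)) = 20 ∧
    ¬ 3 ∣ Nat.card (centralizer ({q} : Set G)) := by
  have : Fact (Nat.Prime 3) := ⟨Nat.prime_three⟩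
  have : Fact (Nat.Prime 5) := ⟨by norm_num⟩
  have hno : ¬ 3 ∣ Nat.card (centralizer ({q} : Set G)) := by
    intro h3
    obtain ⟨w', hw'⟩ := exists_prime_orderOf_dvd_card' 3 h3
    rw [← orderOf_coe] at hw'
    obtain ⟨S, hS⟩ := (IsPGroup.of_card (n := 1) (by rw [Nat.card_zpowers, hw', pow_one]) :
      IsPGroup 3 (zpowers (w' : G))).exists_le_sylow
    have h5 : 5 ∣ Nat.card (centralizer ({(w' : G)} : Set G)) := hq ▸
      Subgroup.orderOf_dvd_natCard _
        (mem_centralizer_singleton_iff.2 (commute_of_mem_centralizer w'.2).symm.eq)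
    have hw1 : (w' : G) ≠ 1 := fun e => by rw [e, orderOf_one] at hw'; omega
    rcases (h.three_centralizer S (hS (mem_zpowers _)) hw1).1 with e | e | e <;>
      rw [e] at h5 <;> norm_num at h5
  refine ⟨(h.five_normalizer hq).resolve_left fun e => hno ?_, hno⟩
  have := e ▸ (prime_normalizer_dvd hq).1
  exact (Nat.Coprime.dvd_of_dvd_mul_left (by norm_num) ((by norm_num : 3 ∣ 120).trans this))

theorem Hyp.card_orderOf_five (h : Hyp G) : Nat.card {g : G // orderOf g = 5} = 504 := by
  have : Fact (Nat.Prime 5) := ⟨by norm_num⟩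
  rw [card_orderOf_eq_mul h.card_sylow_five]
  obtain ⟨y, hy⟩ := exists_prime_orderOf_dvd_card' (G := G) 5 (by rw [h.card]; norm_num)
  obtain ⟨P, hP⟩ := exists_sylow_eq_zpowers hy h.card_sylow_five
  have hmul := card_sylow_mul_card_normalizer P
  rw [hP, (h.five hy).1, h.card] at hmul
  omega

/-- Class counting: pairwise non-conjugate elements of order other than five and seven. -/
theorem Hyp.count (h : Hyp G) {ι : Type*} [Fintype ι] (f : ι → G) (b : ι → ℕ)
    (hb : ∀ i, Nat.card (centralizer ({f i} : Set G)) ≤ b i)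
    (hord : ∀ i, orderOf (f i) ≠ 5 ∧ orderOf (f i) ≠ 7)
    (hnc : ∀ i j, IsConj (f i) (f j) → i = j) :
    1224 + ∑ i, 2520 / b i ≤ 2520 := by
  classical
  have := Fintype.ofFinite G
  let A : ℕ → Finset G := fun n => Finset.univ.filter fun g => orderOf g = n
  let K : ι → Finset G := fun i => Finset.univ.filter fun g => g ∈ (ConjClasses.mk (f i)).carrier
  have hA : ∀ n, (A n).card = Nat.card {g : G // orderOf g = n} := fun n => by
    rw [Nat.card_eq_fintype_card, Fintype.card_subtype]
  have hKd : ∀ i j, i ≠ j → Disjoint (K i) (K j) := by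
    intro i j hij
    refine Finset.disjoint_left.2 fun g hg hg' => hij (hnc i j ?_)
    simp only [K, Finset.mem_filter, Finset.mem_univ, true_and, ConjClasses.mem_carrier_iff_mk_eq] at hg hg'
    exact ConjClasses.mk_eq_mk_iff_isConj.1 (hg ▸ hg')
  have hKo : ∀ i, ∀ g ∈ K i, orderOf g = orderOf (f i) := fun i g hg => by
    simp only [K, Finset.mem_filter, Finset.mem_univ, true_and, ConjClasses.mem_carrier_iff_mk_eq] at hg
    obtain ⟨c, hc⟩ := isConj_iff.1 (ConjClasses.mk_eq_mk_iff_isConj.1 hg)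
    rw [← hc]
    exact (orderOf_injective (MulAut.conj c).toMonoidHom (MulAut.conj c).injective g).symm
  have hKc : ∀ i, 2520 / b i ≤ (K i).card := fun i => by
    have hm := card_carrier_mul_centralizer (f i)
    rw [h.card] at hm
    have : (K i).card = Nat.card (ConjClasses.mk (f i)).carrier := by
      rw [Nat.card_eq_fintype_card, ← Fintype.card_subtype]
    rw [this]
    calc 2520 / b i ≤ 2520 / Nat.card (centralizer ({f i} : Set G)) :=
          Nat.div_le_div_left (hb i) Nat.card_pos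
      _ = Nat.card (ConjClasses.mk (f i)).carrier := by rw [← hm, Nat.mul_div_cancel _ Nat.card_pos]
  have h57 : Disjoint (A 5) (A 7) := Finset.disjoint_left.2 fun g hg hg' => by
    simp only [A, Finset.mem_filter] at hg hg'
    omega
  have hAK : Disjoint (A 5 ∪ A 7) (Finset.univ.biUnion K) := by
    refine Finset.disjoint_left.2 fun g hg hg' => ?_
    obtain ⟨i, -, hi⟩ := Finset.mem_biUnion.1 hg'
    rw [Finset.mem_union] at hg
    simp only [A, Finset.mem_filter] at hg
    have := hKo i g hi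
    obtain ⟨h5, h7⟩ := hord i
    rcases hg with hg | hg <;> omega
  have hle := Finset.card_le_univ ((A 5 ∪ A 7) ∪ Finset.univ.biUnion K)
  rw [Finset.card_union_of_disjoint hAK, Finset.card_union_of_disjoint h57,
    Finset.card_biUnion (fun i _ j _ hij => hKd i j hij), hA, hA, h.card_orderOf_five,
    h.card_orderOf_seven, ← Nat.card_eq_fintype_card, h.card] at hle
  have := Finset.sum_le_sum (s := Finset.univ) fun i _ => hKc i
  omega

end Cfsg.Agent.SmallOrder.Order2520
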